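import Cfsg.Agent.Lib.Chars.Basic
import Mathlib.Analysis.Matrix.Order
import Mathlib.Analysis.Matrix.PosDef
import Mathlib.LinearAlgebra.Trace

/-!
# The trace of a product of two averaging projections
-/

set_option autoImplicit false
set_option linter.unusedSectionVars false

namespace CfsgLib.LocalEven.ExtremelyClosedOdd

open Cfsg Matrix
open scoped ComplexOrder MatrixOrder

theorem trace_mul_nonneg {ι : Type*} [Fintype ι] [DecidableEq ι] {P Q : Matrix ι ι ℂ}
    (hP : P.PosSemidef) (hQ : Q.PosSemidef) : 0 ≤ (P * Q).trace := by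
  obtain ⟨B, rfl⟩ := CStarAlgebra.nonneg_iff_eq_star_mul_self.mp hQ.nonneg
  rw [star_eq_conjTranspose, ← Matrix.mul_assoc, Matrix.trace_mul_comm, ← Matrix.mul_assoc]
  exact (hP.mul_mul_conjTranspose_same B).trace_nonneg

variable {G : Type*} [Group G] [Fintype G] {ι : Type*} [Fintype ι] [DecidableEq ι]

/-- The invariant positive definite form. -/
noncomputable def invForm (R : G →* Matrix ι ι ℂ) : Matrix ι ι ℂ := ∑ g, (R g)ᴴ * R g

theorem invForm_posDef (R : G →* Matrix ι ι ℂ) : (invForm R).PosDef := by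
  classical
  rw [invForm, ← Finset.add_sum_erase _ _ (Finset.mem_univ (1 : G)), map_one]
  simp only [conjTranspose_one, Matrix.mul_one]
  exact PosDef.one.add_posSemidef (posSemidef_sum _ fun g _ => posSemidef_conjTranspose_mul_self _)

theorem conjTranspose_mul_invForm (R : G →* Matrix ι ι ℂ) (h : G) :
    (R h)ᴴ * invForm R = invForm R * R h⁻¹ := by
  have h1 : (R h)ᴴ * invForm R * R h = invForm R := by
    rw [invForm, Finset.mul_sum, Finset.sum_mul]
    refine Fintype.sum_equiv (Equiv.mulRight h) _ _ fun g => ?_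
    simp [map_mul, conjTranspose_mul, Matrix.mul_assoc]
  calc (R h)ᴴ * invForm R = (R h)ᴴ * invForm R * (R h * R h⁻¹) := by
        rw [← map_mul, mul_inv_cancel, map_one, Matrix.mul_one]
    _ = invForm R * R h⁻¹ := by rw [← Matrix.mul_assoc, h1]

/-- The averaging operator of a subgroup. -/
noncomputable def avgMat (R : G →* Matrix ι ι ℂ) (S : Subgroup G) [Fintype S] : Matrix ι ι ℂ :=
  (Fintype.card S : ℂ)⁻¹ • ∑ s : S, R s

theorem avgMat_adjoint (R : G →* Matrix ι ι ℂ) (S : Subgroup G) [Fintype S] :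
    (avgMat R S)ᴴ * invForm R = invForm R * avgMat R S := by
  rw [avgMat, conjTranspose_smul, conjTranspose_sum, Matrix.smul_mul, Matrix.mul_smul,
    Finset.sum_mul, Finset.mul_sum]
  congr 1
  · simp
  refine Fintype.sum_equiv (Equiv.inv S) _ _ fun s => ?_
  simp [conjTranspose_mul_invForm]

theorem avgMat_mul {A C : Subgroup G} [Fintype A] [Fintype C] (hAC : A ≤ C)
    (R : G →* Matrix ι ι ℂ) :
    avgMat R A * avgMat R C = avgMat R C ∧ avgMat R C * avgMat R A = avgMat R C := by
  have hA : (Fintype.card A : ℂ) ≠ 0 := Nat.cast_ne_zero.2 Fintype.card_ne_zero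
  constructor
  · rw [avgMat, avgMat, Matrix.smul_mul, Finset.sum_mul]
    have : ∀ a : A, R a * ((Fintype.card C : ℂ)⁻¹ • ∑ c : C, R c) =
        (Fintype.card C : ℂ)⁻¹ • ∑ c : C, R c := by
      intro a
      rw [Matrix.mul_smul, Finset.mul_sum]
      congr 1
      refine Fintype.sum_equiv (Equiv.mulLeft (⟨a, hAC a.2⟩ : C)) _ _ fun c => ?_
      simp [map_mul]
    rw [Finset.sum_congr rfl fun a _ => this a, Finset.sum_const, Finset.card_univ,
      ← Nat.cast_smul_eq_nsmul ℂ, smul_smul, inv_mul_cancel₀ hA, one_smul]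
  · rw [avgMat, avgMat, Matrix.mul_smul, Finset.mul_sum]
    have : ∀ a : A, ((Fintype.card C : ℂ)⁻¹ • ∑ c : C, R c) * R a =
        (Fintype.card C : ℂ)⁻¹ • ∑ c : C, R c := by
      intro a
      rw [Matrix.smul_mul, Finset.sum_mul]
      congr 1
      refine Fintype.sum_equiv (Equiv.mulRight (⟨a, hAC a.2⟩ : C)) _ _ fun c => ?_
      simp [map_mul]
    rw [Finset.sum_congr rfl fun a _ => this a, Finset.sum_const, Finset.card_univ,
      ← Nat.cast_smul_eq_nsmul ℂ, smul_smul, inv_mul_cancel₀ hA, one_smul]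

theorem trace_avgMat_le {A B C : Subgroup G} [Fintype A] [Fintype B] [Fintype C] (hA : A ≤ C)
    (hB : B ≤ C) (R : G →* Matrix ι ι ℂ) :
    (avgMat R C).trace ≤ (avgMat R A * avgMat R B).trace := by
  have hM := invForm_posDef R
  set M := invForm R with hMdef
  clear_value M
  set a := avgMat R A with ha
  set b := avgMat R B with hb
  set c := avgMat R C with hc
  have hac := avgMat_mul hA R
  have hbc := avgMat_mul hB R
  rw [← ha, ← hc] at hac
  rw [← hb, ← hc] at hbc
  have haa : a * a = a := (avgMat_mul (le_refl A) R).1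
  have hbb : b * b = b := (avgMat_mul (le_refl B) R).1
  have hcc : c * c = c := (avgMat_mul (le_refl C) R).1
  have hX : (a - c) * (a - c) = a - c := by
    rw [Matrix.sub_mul, Matrix.mul_sub, Matrix.mul_sub, haa, hcc, hac.1, hac.2]; abel
  have hY : (b - c) * (b - c) = b - c := by
    rw [Matrix.sub_mul, Matrix.mul_sub, Matrix.mul_sub, hbb, hcc, hbc.1, hbc.2]; abel
  have hXa : (a - c)ᴴ * M = M * (a - c) := by
    rw [conjTranspose_sub, Matrix.sub_mul, Matrix.mul_sub, hMdef, avgMat_adjoint, avgMat_adjoint]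
  have hYa : (b - c)ᴴ * M = M * (b - c) := by
    rw [conjTranspose_sub, Matrix.sub_mul, Matrix.mul_sub, hMdef, avgMat_adjoint, avgMat_adjoint]
  have psd : ∀ X : Matrix ι ι ℂ, X * X = X → Xᴴ * M = M * X → (M * X).PosSemidef := by
    intro X h1 h2
    have : M * X = Xᴴ * M * X := by rw [h2, Matrix.mul_assoc, h1]
    rw [this]
    exact hM.posSemidef.conjTranspose_mul_mul_same X
  have hu : IsUnit M.det := (Matrix.isUnit_iff_isUnit_det M).1 hM.isUnit
  have hP : ((a - c) * M⁻¹).PosSemidef := by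
    have h1 := (psd _ hX hXa).conjTranspose_mul_mul_same M⁻¹
    rwa [hM.inv.isHermitian.eq, ← Matrix.mul_assoc, Matrix.nonsing_inv_mul M hu,
      Matrix.one_mul] at h1
  have h := trace_mul_nonneg hP (psd _ hY hYa)
  rw [Matrix.mul_assoc, ← Matrix.mul_assoc M⁻¹, Matrix.nonsing_inv_mul M hu, Matrix.one_mul] at h
  rw [Matrix.sub_mul, Matrix.mul_sub, Matrix.mul_sub, hac.1, hbc.2, hcc, sub_self, sub_zero,
    Matrix.trace_sub] at h
  exact sub_nonneg.1 h

/-- The character form of `trace_avgMat_le`. -/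
theorem re_avg_pair_le {χ : G → ℂ} (hχ : IsCharacter G χ) {A B C : Subgroup G} [Fintype A]
    [Fintype B] [Fintype C] (hA : A ≤ C) (hB : B ≤ C) :
    (∑ c : C, χ c).re / Fintype.card C ≤
      (∑ a : A, ∑ b : B, χ ((a : G) * b)).re / ((Fintype.card A : ℝ) * Fintype.card B) := by
  obtain ⟨n, ρ, rfl⟩ := hχ
  let R : G →* Matrix (Fin n) (Fin n) ℂ :=
    (LinearMap.toMatrixAlgEquiv (Pi.basisFun ℂ (Fin n))).toAlgHom.toMonoidHom.comp ρ
  have hR : ∀ g, (R g).trace = ρ.character g := fun g => by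
    rw [Representation.character, LinearMap.trace_eq_matrix_trace ℂ (Pi.basisFun ℂ (Fin n))]
    rfl
  have h := trace_avgMat_le hA hB R
  have e1 : (avgMat R C).trace = ((Fintype.card C : ℝ)⁻¹ : ℂ) * ∑ c : C, ρ.character c := by
    simp only [avgMat, Matrix.trace_smul, Matrix.trace_sum, hR, smul_eq_mul, Complex.ofReal_natCast]
  have e2 : (avgMat R A * avgMat R B).trace =
      (((Fintype.card A : ℝ) * Fintype.card B)⁻¹ : ℝ) *
        ∑ a : A, ∑ b : B, ρ.character ((a : G) * b) := by
    simp only [avgMat, Matrix.smul_mul, Matrix.mul_smul, Finset.sum_mul, Finset.mul_sum,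
      Matrix.trace_smul, Matrix.trace_sum, ← map_mul, hR, smul_eq_mul]
    push_cast
    rw [Finset.sum_comm]
    simp only [mul_left_comm, mul_inv, mul_assoc]
  rw [e1, e2] at h
  have h' := (Complex.le_def.1 h).1
  simp only [← Complex.ofReal_inv, Complex.re_ofReal_mul] at h'
  rw [div_eq_inv_mul, div_eq_inv_mul]
  exact h'

end CfsgLib.LocalEven.ExtremelyClosedOdd
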