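import Cfsg.Agent.Lib.CharApps.AbelianSylow
import Cfsg.Agent.Lib.CharApps.PrincipalColumns
import Cfsg.Agent.Lib.LocalEven.ExtremelyClosedOdd.Trace

/-!
# Character sums over an abelian `p`-subgroup
-/

set_option autoImplicit false
set_option linter.unusedSectionVars false
set_option linter.style.haveILetI false

namespace CfsgLib.LocalEven.ExtremelyClosedOdd

open Cfsg CfsgLib.Chars CfsgLib.Blocks
open scoped ComplexConjugate

universe u

variable {G : Type u} [Group G] [Fintype G]

/-- The product of two class sums under an irreducible character. -/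
theorem sum_conj_pair (χ : IrrCharacter G) (x y : G) :
    (χ : G → ℂ) 1 * ∑ g : G, (χ : G → ℂ) (x * (g * y * g⁻¹)) =
      (Nat.card G : ℂ) * (χ : G → ℂ) x * (χ : G → ℂ) y := by
  classical
  obtain ⟨n, ρ, hρ, hχ⟩ := χ.2
  rw [← hχ]
  haveI := hρ
  let T : (Fin n → ℂ) →ₗ[ℂ] (Fin n → ℂ) := ∑ g : G, ρ (g * y * g⁻¹)
  have hcomm : ∀ (h : G) (v : Fin n → ℂ), T (ρ h v) = ρ h (T v) := by
    intro h v
    simp only [T, LinearMap.sum_apply, map_sum]
    refine Fintype.sum_equiv (Equiv.mulLeft h⁻¹) _ _ fun g => ?_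
    simp only [← Module.End.mul_apply, ← map_mul, Equiv.coe_mulLeft]
    congr 2
    group
  obtain ⟨c, hc⟩ :=
    (Representation.IsIrreducible.algebraMap_intertwiningMap_bijective_of_isAlgClosed (ρ := ρ)).2
      (LinearMap.intertwiningMap_of_isIntertwiningMap ρ ρ T hcomm)
  have hT : T = c • LinearMap.id := by
    ext v
    have h2 : LinearMap.intertwiningMap_of_isIntertwiningMap ρ ρ T hcomm (Pi.single v 1) =
        (algebraMap ℂ (ρ.IntertwiningMap ρ) c) (Pi.single v 1) := by rw [hc]
    exact congrFun (by simpa using h2) _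
  have h1 : c * (n : ℂ) = (Nat.card G : ℂ) * ρ.character y := by
    have h2 := congrArg (LinearMap.trace ℂ (Fin n → ℂ)) hT
    rw [map_smul, LinearMap.trace_id, Module.finrank_fin_fun, smul_eq_mul] at h2
    rw [← h2, map_sum, Nat.card_eq_fintype_card, ← nsmul_eq_mul, ← Finset.card_univ,
      ← Finset.sum_const]
    exact Finset.sum_congr rfl fun g _ => isClassFunction_character ρ y g
  have h2 : ∑ g : G, ρ.character (x * (g * y * g⁻¹)) = c * ρ.character x := by
    have h3 : ρ x * T = c • ρ x := by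
      rw [hT]; ext v; simp
    have h4 := congrArg (LinearMap.trace ℂ (Fin n → ℂ)) h3
    rw [map_smul, smul_eq_mul, Finset.mul_sum, map_sum] at h4
    simpa only [Representation.character, map_mul] using h4
  rw [h2, show ρ.character 1 = (n : ℂ) by simp]
  linear_combination ρ.character x * h1

/-- The sum of an irreducible character over a subgroup is real. -/
theorem conj_sum_subgroup (χ : IrrCharacter G) (H : Subgroup G) [Fintype H] :
    conj (∑ h : H, (χ : G → ℂ) h) = ∑ h : H, (χ : G → ℂ) h := by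
  rw [map_sum]
  refine Fintype.sum_equiv (Equiv.inv H) _ _ fun h => ?_
  simp [irr_inv]

/-- An irreducible character trivial on a set generating `G` normally is principal. -/
theorem eq_oneIrr_of_trivial {H : Subgroup G} (hgen : Subgroup.normalClosure (H : Set G) = ⊤)
    {χ : IrrCharacter G} (h : ∀ u ∈ H, (χ : G → ℂ) u = (χ : G → ℂ) 1) :
    χ = CharApps.oneIrr G := by
  classical
  haveI := CharApps.charKer_normal χ
  have hk : ∀ g : G, (χ : G → ℂ) g = (χ : G → ℂ) 1 := fun g => by
    have h1 : Subgroup.normalClosure (H : Set G) ≤ CharApps.charKer χ :=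
      Subgroup.normalClosure_le_normal fun u hu => h u hu
    exact h1 (by rw [hgen]; trivial)
  have h2 := CharApps.sum_irr_eq χ
  rw [Finset.sum_congr rfl fun g _ => hk g, Finset.sum_const, Finset.card_univ] at h2
  by_contra hne
  rw [if_neg hne, nsmul_eq_mul] at h2
  rcases mul_eq_zero.1 h2 with h3 | h3
  · exact Fintype.card_ne_zero (Nat.cast_eq_zero.1 h3)
  · exact CharApps.deg_ne_zero χ h3

variable {M : Ideal AlgInt} [M.IsPrime] {p : ℕ} [Fact p.Prime]

/-- The principal block column of a `p`-element centralised by an abelian `p`-group `H` has norm at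
least `|H|`. -/
theorem card_le_column_norm (hM : IsPModular p M) {H : Subgroup G} (hH : IsPGroup p H) {z : G}
    (hz : ∃ k, orderOf z = p ^ k) (hHz : H ≤ Subgroup.centralizer ({z} : Set G)) :
    (Nat.card H : ℝ) ≤
      (∑ᶠ χ ∈ principalBlock M G, (χ : G → ℂ) z * conj ((χ : G → ℂ) z)).re := by
  classical
  rw [CharApps.principal_column_norm hM hz, Complex.natCast_re]
  set C := Subgroup.centralizer ({z} : Set G)
  haveI := Fintype.ofFinite C
  haveI := irrFintype C
  set K := H.subgroupOf C
  haveI := Fintype.ofFinite K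
  set B := Finset.univ.filter (· ∈ principalBlock M C)
  have horth : ∀ h : K, h ≠ 1 →
      ∑ φ ∈ B, (φ : C → ℂ) 1 * conj ((φ : C → ℂ) h) = 0 := by
    intro h hh
    have h1 := weak_orthogonality (Fact.out : p.Prime) hM.2.2 (isPBlock_principalBlock (G := C) M)
      (x := (1 : C)) (y := (h : C))
      (by rw [orderOf_one]; exact (Fact.out : p.Prime).not_dvd_one)
      (by
        obtain ⟨k, hk⟩ := (IsPGroup.iff_orderOf.1 hH) ⟨((h : C) : G), h.2⟩
        rw [← Subgroup.orderOf_coe] at hk ⊢
        rw [hk]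
        refine dvd_pow_self p fun h0 => hh ?_
        rw [h0, pow_zero, orderOf_eq_one_iff] at hk
        exact Subtype.ext (Subtype.ext hk))
    rwa [finsum_mem_eq_sum_of_inter_support_eq (t := B) _ (by ext; simp [B])] at h1
  have hmult : ∀ φ : IrrCharacter C, ∃ m : ℕ,
      ∑ h : K, conj ((φ : C → ℂ) h) = (Nat.card K : ℂ) * m := by
    intro φ
    obtain ⟨m, hm⟩ := inner_char_nat (isCharacter_one (G := K))
      (isCharacter_restrict K (isCharacter_of_irr φ.2))
    refine ⟨m, ?_⟩
    rw [← hm, inner_def, ← mul_assoc, mul_inv_cancel₀ (card_ne_zero K), one_mul]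
    simp
  choose m hm using hmult
  have hsum : ((∑ᶠ ψ ∈ principalBlock M C, charDegree (ψ : C → ℂ) ^ 2 : ℕ) : ℂ) =
      (Nat.card K : ℂ) * ∑ φ ∈ B, (φ : C → ℂ) 1 * (m φ : ℂ) := by
    calc ((∑ᶠ ψ ∈ principalBlock M C, charDegree (ψ : C → ℂ) ^ 2 : ℕ) : ℂ)
        = ∑ φ ∈ B, (φ : C → ℂ) 1 * conj ((φ : C → ℂ) 1) := by
          rw [finsum_mem_eq_sum_of_inter_support_eq (t := B) _ (by ext; simp [B]), Nat.cast_sum]
          refine Finset.sum_congr rfl fun φ _ => ?_
          rw [CharApps.conj_deg, CharApps.deg_eq, sq, Nat.cast_mul]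
      _ = ∑ h : K, ∑ φ ∈ B, (φ : C → ℂ) 1 * conj ((φ : C → ℂ) h) := by
          rw [Finset.sum_eq_single (1 : K) (fun h _ hh => horth h hh)
            (fun h => absurd (Finset.mem_univ _) h)]
          rfl
      _ = _ := by
          rw [Finset.sum_comm, Finset.mul_sum]
          refine Finset.sum_congr rfl fun φ _ => ?_
          rw [← Finset.mul_sum, hm]; ring
  have hK : Nat.card K = Nat.card H := Nat.card_congr (Subgroup.subgroupOfEquivOfLe hHz).toEquiv
  have hone : m (CharApps.oneIrr C) = 1 := by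
    have h1 := hm (CharApps.oneIrr C)
    simp only [CharApps.oneIrr_apply, map_one, Finset.sum_const, Finset.card_univ, nsmul_eq_mul,
      mul_one, ← Nat.card_eq_fintype_card] at h1
    have h2 := mul_left_cancel₀ (card_ne_zero K) (h1.symm.trans (mul_one _).symm)
    exact_mod_cast h2
  have hge : (Nat.card K : ℂ) * 1 = (Nat.card H : ℂ) := by rw [mul_one, hK]
  have hN : (∑ᶠ ψ ∈ principalBlock M C, charDegree (ψ : C → ℂ) ^ 2 : ℕ) =
      Nat.card K * ∑ φ ∈ B, charDegree (φ : C → ℂ) * m φ := by
    simp only [CharApps.deg_eq] at hsum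
    exact_mod_cast hsum
  rw [hN, hK]
  refine Nat.cast_le.2 (Nat.le_mul_of_pos_right _ ?_)
  refine lt_of_lt_of_le ?_ (Finset.single_le_sum (fun φ _ => Nat.zero_le _)
    (Finset.mem_filter.2 ⟨Finset.mem_univ (CharApps.oneIrr C), principal_mem_principalBlock M⟩))
  rw [hone, mul_one]
  exact CharApps.deg_pos _

end CfsgLib.LocalEven.ExtremelyClosedOdd
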