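import Cfsg.Agent.Lib.LocalEven.ExtremelyClosedOdd.Pair
import Cfsg.Agent.Lib.LocalEven.ExtremelyClosedOdd.Block

/-!
# The counting argument on a family of irreducible characters
-/

set_option autoImplicit false
set_option linter.unusedSectionVars false
set_option linter.style.haveILetI false
set_option maxHeartbeats 1000000

namespace CfsgLib.LocalEven.ExtremelyClosedOdd

open Cfsg CfsgLib.Chars CfsgLib.Blocks Subgroup
open scoped ComplexConjugate

universe u

variable {G : Type u} [Group G]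

section Defs

variable [Fintype G]

/-- The sum of a character over the non-trivial elements of a subgroup (a real number). -/
noncomputable def colDiff (H : Subgroup G) [Fintype H] (χ : IrrCharacter G) : ℝ :=
  ((∑ u : H, (χ : G → ℂ) u) - (χ : G → ℂ) 1).re

/-- The degree as a real number. -/
noncomputable def degR (χ : IrrCharacter G) : ℝ := (charDegree (χ : G → ℂ) : ℝ)

theorem degR_eq (χ : IrrCharacter G) : (χ : G → ℂ) 1 = (degR χ : ℂ) := by
  rw [CharApps.deg_eq]; simp [degR]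

theorem degR_pos (χ : IrrCharacter G) : 0 < degR χ := Nat.cast_pos.2 (CharApps.deg_pos χ)

theorem sum_sub_eq (H : Subgroup G) [Fintype H] (χ : IrrCharacter G) :
    (∑ u : H, (χ : G → ℂ) u) - (χ : G → ℂ) 1 = (colDiff H χ : ℂ) := by
  refine (Complex.conj_eq_iff_re.1 ?_).symm
  rw [map_sub, conj_sum_subgroup, CharApps.conj_deg]

theorem sum_erase_eq (H : Subgroup G) [Fintype H] [DecidableEq H] (χ : IrrCharacter G) :
    ∑ u ∈ (Finset.univ : Finset H).erase 1, (χ : G → ℂ) u = (colDiff H χ : ℂ) := by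
  rw [← sum_sub_eq, Finset.sum_erase_eq_sub (Finset.mem_univ _)]
  rfl

end Defs

/-- The family `B` is constant on the cosets `u Q`. -/
def CosetConst (p : ℕ) (H : Subgroup G) (B : Finset (IrrCharacter G)) : Prop :=
  ∀ χ ∈ B, ∀ u ∈ H, u ≠ 1 → ∀ g w : G, u⁻¹ * w ∈ pairCore p H g →
    (χ : G → ℂ) w = (χ : G → ℂ) u

variable [Fintype G] {p : ℕ} [Fact p.Prime] {H : Subgroup G} [Fintype H]

theorem cubic_identity (hH : IsPGroup p H) (hab : IsMulCommutative H) (hcl : IsExtremelyClosed H)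
    (hq : 3 ≤ Nat.card H) (B : Finset (IrrCharacter G)) (hconst : CosetConst p H B)
    (horth : ∀ v : G, ¬ p ∣ orderOf v → ∀ z ∈ H, z ≠ 1 →
      ∑ χ ∈ B, (χ : G → ℂ) v * conj ((χ : G → ℂ) z) = 0) :
    ∑ χ ∈ B, colDiff H χ ^ 3 / degR χ =
      ((Nat.card H : ℝ) - 2) * ∑ χ ∈ B, colDiff H χ ^ 2 := by
  classical
  set q : ℕ := Nat.card H with hqdef
  have hq0 : (3 : ℝ) ≤ (q : ℝ) := by exact_mod_cast hq
  set S : IrrCharacter G → ℂ := fun χ => ∑ u : H, (χ : G → ℂ) u with hS
  set d : IrrCharacter G → ℝ := colDiff H with hd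
  have hdC : ∀ χ : IrrCharacter G, S χ - (χ : G → ℂ) 1 = (d χ : ℂ) := sum_sub_eq H
  set D : IrrCharacter G → ℝ := degR with hD
  have hDC : ∀ χ : IrrCharacter G, (χ : G → ℂ) 1 = (D χ : ℂ) := degR_eq
  have hSC : ∀ χ : IrrCharacter G, S χ = ((D χ + d χ : ℝ) : ℂ) := fun χ => by
    rw [Complex.ofReal_add, ← hDC, ← hdC]; ring
  have hDpos : ∀ χ : IrrCharacter G, 0 < D χ := degR_pos
  have herase : ∀ χ : IrrCharacter G,
      ∑ u ∈ (Finset.univ : Finset H).erase 1, (χ : G → ℂ) u = (d χ : ℂ) := sum_erase_eq H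
  have hcardH : Fintype.card H = q := Nat.card_eq_fintype_card.symm
  have herasec : ((Finset.univ : Finset H).erase 1).card = q - 1 := by
    rw [Finset.card_erase_of_mem (Finset.mem_univ _), Finset.card_univ, hcardH]
  have hne := fun g => exists_core_conj (p := p) hH hab hcl g
  choose k hkQ hk using hne
  have hnorm : ∀ g, H ≤ normalizer (pairCore p H g : Set G) := fun g =>
    (left_le_pair g).trans (pair_le_normalizer g)
  have hpair : ∀ χ ∈ B, ∀ (g : G) (x : H), ∑ y : H, (χ : G → ℂ) ((x : G) * (g * y * g⁻¹)) =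
      (d χ : ℂ) + (χ : G → ℂ) ((x : G) * (k g * (x : G)⁻¹ * (k g)⁻¹)) := by
    intro χ hχ g x
    let f : H → H := fun y => ⟨g⁻¹ * (k g * y * (k g)⁻¹) * g, (hk g y).1 y.2⟩
    have hf : Function.Injective f := fun a b hfab => by
      have := congrArg Subtype.val hfab
      exact Subtype.ext (mul_left_cancel (mul_right_cancel (mul_left_cancel (mul_right_cancel this))))
    rw [← (Finite.injective_iff_bijective.1 hf).sum_comp
      (fun y : H => (χ : G → ℂ) ((x : G) * (g * y * g⁻¹)))]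
    have e : ∀ y : H, (x : G) * (g * (f y : G) * g⁻¹) = (x : G) * (k g * y * (k g)⁻¹) := by
      intro y; simp only [f]; group
    simp only [e]
    rw [← Finset.add_sum_erase _ _ (Finset.mem_univ x⁻¹), Subgroup.coe_inv, add_comm, ← herase χ]
    congr 1
    refine Finset.sum_bij' (fun y _ => x * y) (fun u _ => x⁻¹ * u) (fun y hy => ?_)
      (fun u hu => ?_) (fun y _ => by group) (fun u _ => by group) (fun y hy => ?_)
    · exact Finset.mem_erase.2 ⟨fun h => (Finset.mem_erase.1 hy).1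
        (eq_inv_of_mul_eq_one_right h), Finset.mem_univ _⟩
    · exact Finset.mem_erase.2 ⟨fun h => (Finset.mem_erase.1 hu).1
        (mul_eq_left.1 h), Finset.mem_univ _⟩
    · have hne1 : (x : G) * y ≠ 1 := fun h => (Finset.mem_erase.1 hy).1
        (eq_inv_of_mul_eq_one_right (Subtype.ext h))
      refine hconst χ hχ _ (H.mul_mem x.2 y.2) hne1 g _ ?_
      have h1 : (y : G)⁻¹ * k g * (y : G) ∈ pairCore p H g := by
        have := (mem_normalizer_iff.1 (hnorm g (H.inv_mem y.2)) (k g)).1 (hkQ g)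
        simpa using this
      have := (pairCore p H g).mul_mem h1 ((pairCore p H g).inv_mem (hkQ g))
      simpa [mul_assoc] using this
  have hreg : ∀ (g : G) (x : H), ¬ p ∣ orderOf ((x : G) * (k g * (x : G)⁻¹ * (k g)⁻¹)) := by
    intro g x
    have h1 : (x : G) * (k g * (x : G)⁻¹ * (k g)⁻¹) ∈ pairCore p H g := by
      have h2 := (mem_normalizer_iff.1 (hnorm g x.2) (k g)).1 (hkQ g)
      have := (pairCore p H g).mul_mem h2 ((pairCore p H g).inv_mem (hkQ g))
      simpa [mul_assoc] using this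
    exact fun hdvd => not_dvd_pairCore g (hdvd.trans (Subgroup.orderOf_dvd_natCard _ h1))
  have hclass : ∀ χ : IrrCharacter G, ∀ x : H,
      (χ : G → ℂ) 1 * ∑ g : G, ∑ y : H, (χ : G → ℂ) ((x : G) * (g * y * g⁻¹)) =
        (Nat.card G : ℂ) * (χ : G → ℂ) x * S χ := by
    intro χ x
    rw [Finset.sum_comm, Finset.mul_sum, hS, Finset.mul_sum]
    exact Finset.sum_congr rfl fun y _ => sum_conj_pair χ x y
  have hG0 : (Nat.card G : ℂ) ≠ 0 := card_ne_zero G
  have hident : ∀ z x : H, z ≠ 1 →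
      ∑ χ ∈ B, ((χ : G → ℂ) x * S χ / (χ : G → ℂ) 1 - (d χ : ℂ)) * conj ((χ : G → ℂ) z) = 0 := by
    intro z x hz
    have h0 : ∀ χ ∈ B, (χ : G → ℂ) x * S χ / (χ : G → ℂ) 1 - (d χ : ℂ) =
        (Nat.card G : ℂ)⁻¹ * ∑ g : G, (χ : G → ℂ) ((x : G) * (k g * (x : G)⁻¹ * (k g)⁻¹)) := by
      intro χ hχ
      have h1 := hclass χ x
      rw [Finset.sum_congr rfl fun g _ => hpair χ hχ g x, Finset.sum_add_distrib, Finset.sum_const,
        Finset.card_univ, nsmul_eq_mul, ← Nat.card_eq_fintype_card] at h1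
      have hχ0 := CharApps.deg_ne_zero χ
      field_simp
      linear_combination -h1
    rw [Finset.sum_congr rfl fun χ hχ => by rw [h0 χ hχ, mul_assoc, Finset.sum_mul],
      ← Finset.mul_sum, Finset.sum_comm]
    refine mul_eq_zero_of_right _ (Finset.sum_eq_zero fun g _ => ?_)
    exact horth _ (hreg g x) z z.2 fun h => hz (Subtype.ext h)
  have hcubic : ∑ χ ∈ B, d χ ^ 3 / D χ = ((q : ℝ) - 2) * ∑ χ ∈ B, d χ ^ 2 := by
    have h1 : ∑ χ ∈ B, (((d χ * (D χ + d χ) / D χ - ((q : ℝ) - 1) * d χ) * d χ : ℝ) : ℂ) = 0 := by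
      have h2 : ∑ z ∈ (Finset.univ : Finset H).erase 1, ∑ x ∈ (Finset.univ : Finset H).erase 1,
          ∑ χ ∈ B, ((χ : G → ℂ) x * S χ / (χ : G → ℂ) 1 - (d χ : ℂ)) * conj ((χ : G → ℂ) z) = 0 :=
        Finset.sum_eq_zero fun z hz => Finset.sum_eq_zero fun x _ =>
          hident z x (Finset.mem_erase.1 hz).1
      rw [Finset.sum_comm (s := (Finset.univ : Finset H).erase 1)] at h2
      simp only [Finset.sum_comm (t := B)] at h2
      rw [← h2]
      refine Finset.sum_congr rfl fun χ _ => ?_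
      rw [← Finset.sum_mul_sum, ← map_sum, herase, Complex.conj_ofReal, Finset.sum_sub_distrib,
        ← Finset.sum_div, ← Finset.sum_mul, herase, Finset.sum_const, herasec, hSC, hDC,
        nsmul_eq_mul, Nat.cast_sub (by omega : 1 ≤ q)]
      push_cast
      ring
    rw [← Complex.ofReal_sum, Complex.ofReal_eq_zero] at h1
    rw [Finset.mul_sum, ← sub_eq_zero, ← Finset.sum_sub_distrib]
    rw [← h1]
    refine Finset.sum_congr rfl fun χ _ => ?_
    have := (hDpos χ).ne'
    field_simp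
    ring
  exact hcubic

theorem colDiff_le (hH : IsPGroup p H) (hab : IsMulCommutative H) (hcl : IsExtremelyClosed H)
    (hq : 3 ≤ Nat.card H) (B : Finset (IrrCharacter G)) (hconst : CosetConst p H B)
    {χ : IrrCharacter G} (hχ : χ ∈ B) (hχ1 : ¬ ∀ u ∈ H, (χ : G → ℂ) u = (χ : G → ℂ) 1) :
    ((Nat.card H : ℝ) - 1) * colDiff H χ ≤ degR χ := by
  classical
  set q : ℕ := Nat.card H with hqdef
  have hq0 : (3 : ℝ) ≤ (q : ℝ) := by exact_mod_cast hq
  set S : IrrCharacter G → ℂ := fun χ => ∑ u : H, (χ : G → ℂ) u with hS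
  set d : IrrCharacter G → ℝ := colDiff H with hd
  have hdC : ∀ χ : IrrCharacter G, S χ - (χ : G → ℂ) 1 = (d χ : ℂ) := sum_sub_eq H
  set D : IrrCharacter G → ℝ := degR with hD
  have hDC : ∀ χ : IrrCharacter G, (χ : G → ℂ) 1 = (D χ : ℂ) := degR_eq
  have hSC : ∀ χ : IrrCharacter G, S χ = ((D χ + d χ : ℝ) : ℂ) := fun χ => by
    rw [Complex.ofReal_add, ← hDC, ← hdC]; ring
  have hDpos : ∀ χ : IrrCharacter G, 0 < D χ := degR_pos
  have herase : ∀ χ : IrrCharacter G,
      ∑ u ∈ (Finset.univ : Finset H).erase 1, (χ : G → ℂ) u = (d χ : ℂ) := sum_erase_eq H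
  have hcardH : Fintype.card H = q := Nat.card_eq_fintype_card.symm
  have herasec : ((Finset.univ : Finset H).erase 1).card = q - 1 := by
    rw [Finset.card_erase_of_mem (Finset.mem_univ _), Finset.card_univ, hcardH]
  have hne := fun g => exists_core_conj (p := p) hH hab hcl g
  choose k hkQ hk using hne
  have hnorm : ∀ g, H ≤ normalizer (pairCore p H g : Set G) := fun g =>
    (left_le_pair g).trans (pair_le_normalizer g)
  have hclass : ∀ χ : IrrCharacter G, ∀ x : H,
      (χ : G → ℂ) 1 * ∑ g : G, ∑ y : H, (χ : G → ℂ) ((x : G) * (g * y * g⁻¹)) =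
        (Nat.card G : ℂ) * (χ : G → ℂ) x * S χ := by
    intro χ x
    rw [Finset.sum_comm, Finset.mul_sum, hS, Finset.mul_sum]
    exact Finset.sum_congr rfl fun y _ => sum_conj_pair χ x y
  have hchar : IsCharacter G (χ : G → ℂ) := isCharacter_of_irr χ.2
  have hre : ∀ u : H, ((χ : G → ℂ) u).re ≤ D χ := fun u =>
    le_trans (Complex.re_le_norm _) (le_trans (char_norm_le hchar u) (by
      rw [hDC, Complex.ofReal_re]))
  have hlt : d χ < ((q : ℝ) - 1) * D χ := by
    by_contra hcon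
    push Not at hcon
    refine hχ1 fun u hu => ?_
    by_cases hu1 : u = 1
    · rw [hu1]
    have h1 : ∀ x ∈ (Finset.univ : Finset H).erase 1, ((χ : G → ℂ) x).re = D χ := by
      refine (Finset.sum_eq_sum_iff_of_le fun x _ => hre x).1 (le_antisymm
        (Finset.sum_le_sum fun x _ => hre x) ?_)
      rw [Finset.sum_const, herasec, nsmul_eq_mul, ← Complex.re_sum, herase, Complex.ofReal_re,
        Nat.cast_sub (by omega : 1 ≤ q)]
      simpa using hcon
    have h2 := h1 ⟨u, hu⟩ (Finset.mem_erase.2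
      ⟨fun h => hu1 (congrArg Subtype.val h), Finset.mem_univ _⟩)
    have h3 := char_norm_le hchar u
    rw [hDC, Complex.ofReal_re] at h3
    have h4 : ((χ : G → ℂ) u).im = 0 := by
      have h5 := Complex.normSq_apply ((χ : G → ℂ) u)
      rw [Complex.normSq_eq_norm_sq] at h5
      nlinarith [norm_nonneg ((χ : G → ℂ) u), sq_nonneg ((χ : G → ℂ) u).im, hDpos χ]
    rw [hDC]
    exact Complex.ext (by simpa using h2) (by simpa using h4)
  -- one pair
  have hg : ∀ g : G, (q : ℝ) * q * d χ / ((q : ℝ) - 1) ≤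
      (∑ x : H, ∑ y : H, (χ : G → ℂ) ((x : G) * (g * y * g⁻¹))).re := by
    intro g
    set K := pairGroup H g with hK
    set Q := pairCore p H g with hQ
    haveI := Fintype.ofFinite K
    haveI := Fintype.ofFinite Q
    haveI := Fintype.ofFinite (H.map (MulAut.conj g).toMonoidHom)
    obtain ⟨hsup, hinf⟩ := sup_pairCore hH hab hcl g
    let f : H × Q → K := fun a => ⟨(a.1 : G) * a.2,
      K.mul_mem (left_le_pair g a.1.2) (pairCore_le g a.2.2)⟩
    have hfinj : Function.Injective f := fun a b h =>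
      Subgroup.mul_injective_of_disjoint (disjoint_iff.2 hinf) (congrArg Subtype.val h)
    have hfsurj : Function.Surjective f := fun c => by
      have h1 : (c : G) ∈ ((H ⊔ Q : Subgroup G) : Set G) := by rw [hsup]; exact c.2
      rw [coe_mul_of_left_le_normalizer_right _ _ (hnorm g)] at h1
      obtain ⟨a, ha, b, hb, e⟩ := h1
      exact ⟨⟨⟨a, ha⟩, ⟨b, hb⟩⟩, Subtype.ext e⟩
    have hKcard : Fintype.card K = q * Fintype.card Q := by
      rw [← Fintype.card_of_bijective (f := f) ⟨hfinj, hfsurj⟩, Fintype.card_prod, hcardH]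
    have hKsum : ∑ c : K, (χ : G → ℂ) c =
        ∑ b : Q, (χ : G → ℂ) b + (Fintype.card Q : ℂ) * (d χ : ℂ) := by
      rw [← Function.Bijective.sum_comp (⟨hfinj, hfsurj⟩ : Function.Bijective f)
        (fun c : K => (χ : G → ℂ) c), Fintype.sum_prod_type,
        ← Finset.add_sum_erase _ _ (Finset.mem_univ (1 : H)), ← herase χ, Finset.mul_sum]
      congr 1
      · simp [f]
      refine Finset.sum_congr rfl fun u hu => ?_
      rw [Finset.sum_congr rfl (g := fun _ : Q => (χ : G → ℂ) u) fun b _ => ?_,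
        Finset.sum_const, Finset.card_univ, nsmul_eq_mul]
      refine hconst χ hχ u u.2 (fun h => (Finset.mem_erase.1 hu).1 (Subtype.ext h)) g _ ?_
      show (u : G)⁻¹ * ((u : G) * (b : G)) ∈ Q
      rw [inv_mul_cancel_left]
      exact b.2
    have hQQ : ∑ a : Q, ∑ b : Q, (χ : G → ℂ) ((a : G) * b) =
        (Fintype.card Q : ℂ) * ∑ b : Q, (χ : G → ℂ) b := by
      rw [Finset.sum_congr rfl (g := fun _ : Q => ∑ b : Q, (χ : G → ℂ) b) fun a _ =>
        Fintype.sum_equiv (Equiv.mulLeft a) _ _ (fun b => by simp),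
        Finset.sum_const, Finset.card_univ, nsmul_eq_mul]
    have hmap : ∑ x : H, ∑ y : H.map (MulAut.conj g).toMonoidHom, (χ : G → ℂ) ((x : G) * y) =
        ∑ x : H, ∑ y : H, (χ : G → ℂ) ((x : G) * (g * y * g⁻¹)) := by
      refine Finset.sum_congr rfl fun x _ => ?_
      rw [← (H.equivMapOfInjective (MulAut.conj g).toMonoidHom
        (MulAut.conj g).injective).toEquiv.sum_comp
          (fun y : H.map (MulAut.conj g).toMonoidHom => (χ : G → ℂ) ((x : G) * y))]
      rfl
    have hmapcard : Fintype.card (H.map (MulAut.conj g).toMonoidHom) = q := by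
      rw [← Nat.card_eq_fintype_card, card_conj]
    have t1 := re_avg_pair_le hchar (A := Q) (B := Q) (C := K) (pairCore_le g) (pairCore_le g)
    have t2 := re_avg_pair_le hchar (A := H) (B := H.map (MulAut.conj g).toMonoidHom) (C := K)
      le_sup_left le_sup_right
    rw [hQQ, hKsum, hKcard] at t1
    rw [hKsum, hKcard, hmap, hmapcard, hcardH] at t2
    simp only [Complex.add_re, Nat.cast_mul, ← Complex.ofReal_natCast, ← Complex.ofReal_mul,
      Complex.ofReal_re, Complex.re_ofReal_mul] at t1 t2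
    set s := (∑ b : Q, (χ : G → ℂ) b).re
    have hQpos : (0 : ℝ) < Fintype.card Q := Nat.cast_pos.2 Fintype.card_pos
    set m : ℝ := (Fintype.card Q : ℝ)
    rw [div_le_div_iff₀ (by positivity) (by positivity)] at t1 t2
    rw [div_le_iff₀ (by linarith)]
    have e1 : m * d χ ≤ ((q : ℝ) - 1) * s := by
      have h5 : (s + m * d χ) * (m * m) ≤ (q : ℝ) * s * (m * m) := by nlinarith
      have := le_of_mul_le_mul_right h5 (by positivity)
      nlinarith
    have e2 : (s + m * d χ) * (q * q) ≤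
        (∑ x : H, ∑ y : H, (χ : G → ℂ) ((x : G) * (g * y * g⁻¹))).re * (q * m) := t2
    nlinarith [mul_le_mul_of_nonneg_right e1 (by positivity : (0 : ℝ) ≤ (q : ℝ) * q),
      mul_pos hQpos (lt_of_lt_of_le (by norm_num : (0 : ℝ) < 3) hq0)]
  have hsumT : (D χ + d χ) ^ 2 * (Nat.card G : ℝ) =
      D χ * ∑ g : G, (∑ x : H, ∑ y : H, (χ : G → ℂ) ((x : G) * (g * y * g⁻¹))).re := by
    have h1 : (χ : G → ℂ) 1 *
        ∑ g : G, ∑ x : H, ∑ y : H, (χ : G → ℂ) ((x : G) * (g * y * g⁻¹)) =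
          (Nat.card G : ℂ) * S χ * S χ := by
      rw [Finset.sum_comm, Finset.mul_sum, Finset.sum_congr rfl fun x _ => hclass χ x]
      simp only [← Finset.sum_mul, ← Finset.mul_sum]
      rfl
    have h2 := congrArg Complex.re h1
    rw [hDC, Complex.re_ofReal_mul, Complex.re_sum, hSC] at h2
    rw [h2, show (Nat.card G : ℂ) = ((Nat.card G : ℝ) : ℂ) by simp, ← Complex.ofReal_mul,
      ← Complex.ofReal_mul, Complex.ofReal_re]
    ring
  have hle : (Nat.card G : ℝ) * ((q : ℝ) * q * d χ / ((q : ℝ) - 1)) ≤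
      ∑ g : G, (∑ x : H, ∑ y : H, (χ : G → ℂ) ((x : G) * (g * y * g⁻¹))).re := by
    refine le_trans (le_of_eq ?_) (Finset.sum_le_sum fun g _ => hg g)
    rw [Finset.sum_const, Finset.card_univ, nsmul_eq_mul, Nat.card_eq_fintype_card]
  have h6 := mul_le_mul_of_nonneg_left hle (hDpos χ).le
  rw [← hsumT] at h6
  have hGpos : (0 : ℝ) < Nat.card G := Nat.cast_pos.2 Nat.card_pos
  have h7 : D χ * ((q : ℝ) * q * d χ / ((q : ℝ) - 1)) ≤ (D χ + d χ) ^ 2 := by
    refine le_of_mul_le_mul_right ?_ hGpos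
    linarith
  rw [mul_div_assoc', div_le_iff₀ (by linarith)] at h7
  by_contra hcon
  push Not at hcon
  nlinarith [mul_pos (sub_pos.2 hlt) (sub_pos.2 hcon)]



end CfsgLib.LocalEven.ExtremelyClosedOdd
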