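import Cfsg.Agent.Lib.LocalEven.ExtremelyClosedOdd.Count
import Cfsg.Agent.Lib.Glauberman.Cyclic
import Cfsg.Agent.Lib.Glauberman.Count
import Cfsg.Agent.Lib.Glauberman.CoprimeDegree
import Cfsg.Agent.Lib.CharsMore.Gallagher
import Cfsg.Agent.Lib.Chars.Quotient

/-!
# Extremely closed abelian subgroups with a normal complement

If `G = R H` with `R` a normal `p'`-subgroup and `G` generated by conjugates of `H`, then
`C_R(H) = 1`: an invariant irreducible character of `R` gives a family of extensions which is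
constant on the cosets `u Q`, and the cubic identity forces it to vanish on `H`.
-/

set_option autoImplicit false
set_option linter.unusedSectionVars false
set_option linter.style.haveILetI false
set_option maxHeartbeats 1000000

namespace CfsgLib.LocalEven.ExtremelyClosedOdd

open Cfsg CfsgLib.Chars CfsgLib.Glauberman Subgroup
open scoped ComplexConjugate

universe u

variable {G : Type u} [Group G] [Finite G]

/-- The normal closure of `H` in `L`, as a subgroup of `G`. -/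
abbrev closIn (H L : Subgroup G) : Subgroup G :=
  (normalClosure ((H.subgroupOf L : Subgroup L) : Set L)).map L.subtype

theorem closIn_le (H L : Subgroup G) : closIn H L ≤ L := map_subtype_le _

theorem le_closIn {H L : Subgroup G} (hHL : H ≤ L) : H ≤ closIn H L := fun h hh =>
  ⟨⟨h, hHL hh⟩, subset_normalClosure (mem_subgroupOf.2 hh), rfl⟩

theorem conj_mem_closIn {H L : Subgroup G} {a x : G} (ha : a ∈ L) (hx : x ∈ closIn H L) :
    a * x * a⁻¹ ∈ closIn H L := by
  obtain ⟨y, hy, rfl⟩ := hx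
  exact ⟨⟨a, ha⟩ * y * ⟨a, ha⟩⁻¹, normalClosure_normal.conj_mem y hy _, rfl⟩

theorem pair_le_closIn {H L : Subgroup G} (hHL : H ≤ L) {a : G} (ha : a ∈ L) :
    pairGroup H a ≤ closIn H L :=
  pair_le_of_conj (le_closIn hHL) fun _ hy => conj_mem_closIn ha (le_closIn hHL hy)

variable {p : ℕ} [Fact p.Prime] {H : Subgroup G}

/-- The invariant characters of `C_R(u)` are constant on the normal complement of `C_R(H)`. -/
theorem inv_char_eq_degree (hH : IsPGroup p H) (hab : IsMulCommutative H)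
    (hcl : IsExtremelyClosed H) (R : Subgroup G) [R.Normal] (hR : ¬ p ∣ Nat.card R) {u : G}
    (hu : u ∈ H) (hind : closIn H (centralizer ({u} : Set G)) ⊓ normalizer (H : Set G) = H)
    (hQR : ∀ g : G, pairCore p H g ≤ R) (U : Subgroup G)
    (hU : U = R ⊓ centralizer ({u} : Set G))
    (β : IrrCharacter U) (hβ : InvBy H U (β : U → ℂ))
    (g : G) (v : U) (hv : (v : G) ∈ pairCore p H g) :
    (β : U → ℂ) v = (β : U → ℂ) 1 := by
  classical
  subst hU
  let U := R ⊓ centralizer ({u} : Set G)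
  let Z := centralizer ({u} : Set G)
  set L := closIn H Z with hL
  have hHZ : H ≤ Z := fun h hh => mem_centralizer_singleton_iff.2
    (congrArg Subtype.val (hab.is_comm.comm (⟨h, hh⟩ : H) ⟨u, hu⟩))
  have hHU : H ≤ normalizer (U : Set G) := fun h hh => mem_normalizer_fintype fun a ha =>
    ⟨(inferInstance : R.Normal).conj_mem a ha.1 h,
      Z.mul_mem (Z.mul_mem (hHZ hh) ha.2) (Z.inv_mem (hHZ hh))⟩
  set D : Subgroup U := L.subgroupOf U with hD
  haveI : D.Normal := ⟨fun d hd a => mem_subgroupOf.2 (conj_mem_closIn a.2.2 (mem_subgroupOf.1 hd))⟩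
  set S : Subgroup G := U ⊓ centralizer (H : Set G) with hS
  have hsplit : ∀ a ∈ U, ∃ c ∈ S, c⁻¹ * a ∈ L := by
    intro a ha
    obtain ⟨k, hk, hkH⟩ := exists_core_conj (p := p) hH hab hcl a
    have hkL : k ∈ L := pair_le_closIn hHZ ha.2 (pairCore_le a hk)
    have hn : a⁻¹ * k ∈ normalizer (H : Set G) := mem_normalizer_fintype fun y hy => by
      have := (hkH y).1 hy
      simpa [mul_assoc] using this
    have hU' : a⁻¹ * k ∈ U :=
      ⟨R.mul_mem (R.inv_mem ha.1) (hQR a hk), Z.mul_mem (Z.inv_mem ha.2) (closIn_le H Z hkL)⟩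
    have hcen : a⁻¹ * k ∈ centralizer (H : Set G) := mem_centralizer_iff.2 fun y hy => by
      have h1 : a⁻¹ * k * y * (a⁻¹ * k)⁻¹ * y⁻¹ ∈ R := by
        have := R.mul_mem hU'.1 ((inferInstance : R.Normal).conj_mem _ (R.inv_mem hU'.1) y)
        simpa [mul_assoc] using this
      have h2 := H.mul_mem ((mem_normalizer_iff.1 hn y).1 hy) (H.inv_mem hy)
      have h3 := eq_one_of_mem_coprime hH h2 hR h1
      rw [mul_inv_eq_one, mul_inv_eq_iff_eq_mul] at h3
      exact h3.symm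
    refine ⟨(a⁻¹ * k)⁻¹, S.inv_mem ⟨hU', hcen⟩, ?_⟩
    rw [inv_inv]
    have : a⁻¹ * k * a = a⁻¹ * k * a⁻¹⁻¹ := by rw [inv_inv]
    rw [this]
    exact conj_mem_closIn (Z.inv_mem ha.2) hkL
  have hint : ∀ c ∈ S, c ∈ L → c = 1 := by
    intro c hc hcL
    have : c ∈ H := by
      rw [← hind]
      refine ⟨hcL, mem_normalizer_fintype fun y hy => ?_⟩
      show c * y * c⁻¹ ∈ H
      rw [← mem_centralizer_iff.1 hc.2 y hy, mul_inv_cancel_right]
      exact hy
    exact eq_one_of_mem_coprime hH this hR hc.1.1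
  -- `H` fixes every character with `D` in the kernel
  have hfix : ∀ η : {χ : IrrCharacter U // ∀ x ∈ D, (χ : U → ℂ) x = (χ : U → ℂ) 1},
      InvBy H U (η.1 : U → ℂ) := by
    rintro ⟨η, hη⟩ h hh a a' e
    obtain ⟨c, hc, hca⟩ := hsplit a a.2
    have hd' : (⟨c, hc.1⟩ : U)⁻¹ * a' ∈ D := by
      refine mem_subgroupOf.2 ?_
      show c⁻¹ * (a' : G) ∈ L
      rw [e, show c⁻¹ * (h * (a : G) * h⁻¹) = (c⁻¹ * h * c * h⁻¹) * (h * (c⁻¹ * a) * h⁻¹) by group,
        show c⁻¹ * h * c * h⁻¹ = 1 by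
          rw [mul_assoc _ h c, mem_centralizer_iff.1 hc.2 h hh]; group, one_mul]
      exact conj_mem_closIn (hHZ hh) hca
    have hd : (⟨c, hc.1⟩ : U)⁻¹ * a ∈ D := mem_subgroupOf.2 hca
    have e1 := (CharApps.char_mul_of_mem_ker (isCharacter_of_irr η.2) (hη _ hd) ⟨c, hc.1⟩).2
    have e2 := (CharApps.char_mul_of_mem_ker (isCharacter_of_irr η.2) (hη _ hd') ⟨c, hc.1⟩).2
    rw [mul_inv_cancel_left] at e1 e2
    show (η : U → ℂ) a' = (η : U → ℂ) a
    rw [e1, e2]
  let f : {χ : IrrCharacter U // ∀ x ∈ D, (χ : U → ℂ) x = (χ : U → ℂ) 1} →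
      {χ : IrrCharacter U // InvBy H U (χ : U → ℂ)} := fun η => ⟨η.1, hfix η⟩
  have hfinj : Function.Injective f := fun a b e => Subtype.ext (congrArg (fun z => z.1) e)
  have hcard : Nat.card {χ : IrrCharacter U // ∀ x ∈ D, (χ : U → ℂ) x = (χ : U → ℂ) 1} =
      Nat.card {χ : IrrCharacter U // InvBy H U (χ : U → ℂ)} := by
    haveI := Fintype.ofFinite U
    haveI := Fintype.ofFinite (U ⧸ D)
    haveI := Fintype.ofFinite S
    have hcop : (Nat.card U).Coprime (Nat.card H) := by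
      obtain ⟨i, hi⟩ := IsPGroup.iff_card.1 hH
      rw [hi]
      exact (coprime_pow_of_not_dvd (fun hd => hR (hd.trans (card_dvd_of_le inf_le_left))) i).symm
    rw [← Nat.card_congr (quotientIrrEquiv D), card_inv_irr hHU hcop
      (Group.isSolvable_of_comm hab.is_comm.comm), card_irr_eq_card_classes]
    rw [show Nat.card (IrrCharacter (U ⊓ centralizer (H : Set G) : Subgroup G)) =
      Nat.card (IrrCharacter S) from rfl, card_irr_eq_card_classes]
    let π : S →* U ⧸ D := (QuotientGroup.mk' D).comp (Subgroup.inclusion inf_le_left)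
    have hπ : Function.Bijective π := by
      refine ⟨(MonoidHom.ker_eq_bot_iff π).1 (eq_bot_iff.2 fun c hc => ?_), fun x => ?_⟩
      · have h1 : (Subgroup.inclusion inf_le_left c : U) ∈ D := (QuotientGroup.eq_one_iff _).1 hc
        exact mem_bot.2 (Subtype.ext (hint c c.2 (mem_subgroupOf.1 h1)))
      · obtain ⟨a, rfl⟩ := QuotientGroup.mk'_surjective D x
        obtain ⟨c, hc, hca⟩ := hsplit a a.2
        exact ⟨⟨c, hc⟩, QuotientGroup.eq.2 (mem_subgroupOf.2 hca)⟩
    refine (Nat.card_congr (Equiv.ofBijective (ConjClasses.map π) ⟨fun a b e => ?_, fun x => ?_⟩)).symm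
    · obtain ⟨a, rfl⟩ := ConjClasses.mk_surjective a
      obtain ⟨b, rfl⟩ := ConjClasses.mk_surjective b
      obtain ⟨c, hc⟩ := isConj_iff.1 (ConjClasses.mk_eq_mk_iff_isConj.1 e)
      obtain ⟨c, rfl⟩ := hπ.2 c
      rw [← map_mul, ← map_inv, ← map_mul] at hc
      exact ConjClasses.mk_eq_mk_iff_isConj.2 (isConj_iff.2 ⟨c, hπ.1 hc⟩)
    · obtain ⟨x, rfl⟩ := ConjClasses.mk_surjective x
      obtain ⟨c, rfl⟩ := hπ.2 x
      exact ⟨ConjClasses.mk c, rfl⟩
  obtain ⟨η, hη⟩ := ((Nat.bijective_iff_injective_and_card f).2 ⟨hfinj, hcard⟩).2 ⟨β, hβ⟩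
  have hη' : η.1 = β := congrArg Subtype.val hη
  have hvD : v ∈ D := mem_subgroupOf.2
    (pair_le_closIn hHZ v.2.2 (mem_pair_self (p := p) hH hab hcl hv))
  rw [← hη']
  exact η.2 v hvD

/-- `C_R(H) = 1` when `G = R H` is generated by the conjugates of `H`. -/
theorem fixed_eq_bot (hH : IsPGroup p H) (hab : IsMulCommutative H)
    (hcl : IsExtremelyClosed H) (hq : 3 ≤ Nat.card H) (R : Subgroup G) [hRn : R.Normal]
    (hR : ¬ p ∣ Nat.card R) (hHR : H ⊔ R = ⊤) (hgen : normalClosure (H : Set G) = ⊤)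
    (hind : ∀ u ∈ H, u ≠ 1 →
      closIn H (centralizer ({u} : Set G)) ⊓ normalizer (H : Set G) = H) :
    R ⊓ centralizer (H : Set G) = ⊥ := by
  classical
  by_contra hC
  haveI := Fintype.ofFinite G
  haveI := Fintype.ofFinite H
  haveI := Fintype.ofFinite R
  haveI := irrFintype G
  set C := R ⊓ centralizer (H : Set G) with hCdef
  haveI := Fintype.ofFinite C
  obtain ⟨i, hi⟩ := IsPGroup.iff_card.1 hH
  have hcopRH : (Nat.card R).Coprime (Nat.card H) := by
    rw [hi]; exact (coprime_pow_of_not_dvd hR i).symm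
  have hQR : ∀ g : G, pairCore p H g ≤ R := fun g x hx =>
    mem_of_coprime_of_mem_sup hH (hHR ▸ mem_top x) fun hd =>
      not_dvd_pairCore g (hd.trans (Subgroup.orderOf_dvd_natCard _ hx))
  have hHn : H ≤ normalizer (R : Set G) := le_normalizer_of_normal
  -- a non-principal invariant character
  obtain ⟨θ, hθinv, hθ1⟩ : ∃ θ : IrrCharacter R, InvBy H R (θ : R → ℂ) ∧ θ ≠ CharApps.oneIrr R := by
    by_contra hno
    push Not at hno
    have h1 : Nat.card {χ : IrrCharacter R // InvBy H R (χ : R → ℂ)} ≤ 1 :=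
      Finite.card_le_one_iff_subsingleton.2
        ⟨fun a b => Subtype.ext ((hno a.1 a.2).trans (hno b.1 b.2).symm)⟩
    rw [card_inv_irr hHn hcopRH (Group.isSolvable_of_comm hab.is_comm.comm)] at h1
    rw [show Nat.card (IrrCharacter (R ⊓ centralizer (H : Set G) : Subgroup G)) =
      Nat.card (IrrCharacter C) from rfl, card_irr_eq_card_classes] at h1
    haveI := Finite.card_le_one_iff_subsingleton.1 h1
    obtain ⟨⟨c, hc⟩, hne⟩ := (ne_bot_iff_exists_ne_one (H := C)).1 hC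
    exact hne (isConj_one_left.1
      (ConjClasses.mk_eq_mk_iff_isConj.1 (Subsingleton.elim _ _)))
  -- extensions
  have hinvG : ∀ (g : G) (n : R), (θ : R → ℂ) (CharsMore.conjBy R g n) = (θ : R → ℂ) n := by
    intro g n
    obtain ⟨h, hh, r, hr, rfl⟩ := mem_sup_of_normal_right.1 (hHR ▸ mem_top g : g ∈ H ⊔ R)
    have hm : r * (n : G) * r⁻¹ ∈ R := R.mul_mem (R.mul_mem hr n.2) (R.inv_mem hr)
    rw [hθinv h hh ⟨_, hm⟩ (CharsMore.conjBy R (h * r) n) (by simp [mul_assoc]),
      show (⟨_, hm⟩ : R) = ⟨r, hr⟩ * n * ⟨r, hr⟩⁻¹ from rfl]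
    exact isClassFunction_irr θ _ _
  have hidx : R.index = Nat.card H := by
    rw [← relIndex_top_right, ← hHR, relIndex_sup_right, ← inf_relIndex_right, inf_comm,
      show H ⊓ R = ⊥ from eq_bot_iff.2 fun x hx =>
        mem_bot.2 (eq_one_of_mem_coprime hH hx.1 hR hx.2), relIndex_bot_left]
  set B := Finset.univ.filter fun χ : IrrCharacter G => ∀ n : R, (χ : G → ℂ) n = (θ : R → ℂ) n
    with hB
  have hBres : ∀ χ ∈ B, IsIrrCharacter R (fun n : R => (χ : G → ℂ) n) := fun χ hχ => by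
    rw [show (fun n : R => (χ : G → ℂ) n) = (θ : R → ℂ) from funext (Finset.mem_filter.1 hχ).2]
    exact θ.2
  obtain ⟨χ₀, hχ₀, hχ₀r⟩ :=
    exists_ext_of_coprime_card R (by rw [hidx]; exact hcopRH) θ hinvG
  have hχ₀B : (⟨χ₀, hχ₀⟩ : IrrCharacter G) ∈ B :=
    Finset.mem_filter.2 ⟨Finset.mem_univ _, hχ₀r⟩
  -- the linear characters trivial on `R`
  have hlam : ∀ z ∈ H, z ≠ 1 → ∃ lam : G →* ℂˣ, (∀ n ∈ R, lam n = 1) ∧ lam z ≠ 1 := by
    intro z hz hz1
    have hcomm : ∀ a b : G ⧸ R, a * b = b * a := by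
      intro a b
      obtain ⟨a, rfl⟩ := QuotientGroup.mk'_surjective R a
      obtain ⟨b, rfl⟩ := QuotientGroup.mk'_surjective R b
      obtain ⟨h, hh, r, hr, rfl⟩ := mem_sup_of_normal_right.1 (hHR ▸ mem_top a : a ∈ H ⊔ R)
      obtain ⟨h', hh', r', hr', rfl⟩ := mem_sup_of_normal_right.1 (hHR ▸ mem_top b : b ∈ H ⊔ R)
      rw [map_mul, map_mul, show QuotientGroup.mk' R r = 1 from (QuotientGroup.eq_one_iff r).2 hr,
        show QuotientGroup.mk' R r' = 1 from (QuotientGroup.eq_one_iff r').2 hr', mul_one, mul_one,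
        ← map_mul, ← map_mul]
      exact congrArg _ (congrArg Subtype.val (hab.is_comm.comm (⟨h, hh⟩ : H) ⟨h', hh'⟩))
    letI : CommGroup (G ⧸ R) := { (inferInstance : Group (G ⧸ R)) with mul_comm := hcomm }
    obtain ⟨lam, hlam⟩ := CommGroup.exists_apply_ne_one_of_hasEnoughRootsOfUnity (G ⧸ R) ℂ
      (a := QuotientGroup.mk' R z) (fun h => hz1
        (eq_one_of_mem_coprime hH hz hR ((QuotientGroup.eq_one_iff z).1 h)))
    refine ⟨lam.comp (QuotientGroup.mk' R), fun n hn => ?_, hlam⟩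
    rw [MonoidHom.comp_apply, show QuotientGroup.mk' R n = 1 from (QuotientGroup.eq_one_iff n).2 hn,
      map_one]
  have htw : ∀ lam : G →* ℂˣ, (∀ n ∈ R, lam n = 1) → ∀ χ ∈ B,
      (⟨fun g => (lam g : ℂ) * (χ : G → ℂ) g, isIrrCharacter_linear_mul lam χ.2⟩ : IrrCharacter G) ∈
        B := fun lam hl χ hχ => by
    refine Finset.mem_filter.2 ⟨Finset.mem_univ _, fun n => ?_⟩
    show (lam n : ℂ) * (χ : G → ℂ) n = _
    rw [hl n n.2, Units.val_one, one_mul, (Finset.mem_filter.1 hχ).2 n]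
  have horth : ∀ v : G, ¬ p ∣ orderOf v → ∀ z ∈ H, z ≠ 1 →
      ∑ χ ∈ B, (χ : G → ℂ) v * conj ((χ : G → ℂ) z) = 0 := by
    intro v hv z hz hz1
    obtain ⟨lam, hl, hlz⟩ := hlam z hz hz1
    have hlv : lam v = 1 := hl v (mem_of_coprime_of_mem_sup hH (hHR ▸ mem_top v) hv)
    have hli : ∀ n ∈ R, lam⁻¹ n = 1 := fun n hn => by rw [MonoidHom.inv_apply, hl n hn, inv_one]
    have h1 : ∑ χ ∈ B, (χ : G → ℂ) v * conj ((χ : G → ℂ) z) =
        ∑ χ ∈ B, ((lam v : ℂ) * (χ : G → ℂ) v) * conj ((lam z : ℂ) * (χ : G → ℂ) z) := by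
      symm
      refine Finset.sum_bij' (fun χ _ => ⟨_, isIrrCharacter_linear_mul lam χ.2⟩)
        (fun χ _ => ⟨_, isIrrCharacter_linear_mul lam⁻¹ χ.2⟩) (fun χ hχ => htw lam hl χ hχ)
        (fun χ hχ => htw lam⁻¹ hli χ hχ) (fun χ _ => Subtype.ext (funext fun g => by simp))
        (fun χ _ => Subtype.ext (funext fun g => by simp)) (fun χ _ => rfl)
    rw [hlv] at h1
    simp only [Units.val_one, one_mul, map_mul] at h1
    rw [Finset.sum_congr rfl (g := fun χ => conj (lam z : ℂ) *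
      ((χ : G → ℂ) v * conj ((χ : G → ℂ) z))) (s₂ := B) (fun χ _ => by ring)
      (f := fun χ => (χ : G → ℂ) v * (conj (lam z : ℂ) * conj ((χ : G → ℂ) z))),
      ← Finset.mul_sum] at h1
    have h2 : (1 - conj (lam z : ℂ)) * ∑ χ ∈ B, (χ : G → ℂ) v * conj ((χ : G → ℂ) z) = 0 := by
      rw [sub_mul, one_mul, ← h1, sub_self]
    refine (mul_eq_zero.1 h2).resolve_left fun h3 => hlz (Units.ext ?_)
    rw [sub_eq_zero] at h3
    have := congrArg conj h3
    rw [map_one, Complex.conj_conj] at this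
    exact this.symm
  -- the restriction to `R⟨u⟩` and the value at `u`
  have hkey : ∀ χ ∈ B, ∀ u ∈ H, u ≠ 1 →
      (χ : G → ℂ) u ≠ 0 ∧ ∀ g v : G, v ∈ pairCore p H g → Commute u v →
        (χ : G → ℂ) (u * v) = (χ : G → ℂ) u := by
    intro χ hχ u hu hu1
    set Γ : Subgroup G := R ⊔ zpowers u with hΓ
    haveI := Fintype.ofFinite Γ
    haveI := irrFintype Γ
    have hRΓ : R ≤ Γ := le_sup_left
    let s : Γ := ⟨u, mem_sup_right (mem_zpowers u)⟩
    set R' : Subgroup Γ := R.subgroupOf Γ with hR'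
    haveI := Fintype.ofFinite R'
    set Cs : Subgroup Γ := R' ⊓ centralizer (zpowers s : Set Γ) with hCs
    haveI := Fintype.ofFinite Cs
    have hRe : Nat.card R' = Nat.card R := Nat.card_congr (subgroupOfEquivOfLe hRΓ).toEquiv
    have hsetup : CyclicSetup R' Cs s := by
      refine ⟨?_, ?_, rfl⟩
      · rw [hRe, show orderOf s = orderOf u from (Subgroup.orderOf_coe s).symm]
        exact hcopRH.coprime_dvd_right (Subgroup.orderOf_dvd_natCard _ hu)
      · refine (map_injective (subtype_injective Γ)) ?_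
        rw [Subgroup.map_sup, map_subgroupOf_eq_of_le hRΓ, MonoidHom.map_zpowers,
          ← MonoidHom.range_eq_map, range_subtype]
        rfl
    -- restriction
    set χ' : Γ → ℂ := fun x => (χ : G → ℂ) x with hχ'
    have hχ'c : IsCharacter Γ χ' := isCharacter_restrict Γ (isCharacter_of_irr χ.2)
    have hχ'irr : IsIrrCharacter Γ χ' := by
      refine CharApps.isIrr_of_inner_self hχ'c ?_
      have hG0 := CharsMore.coset_norm_avg R χ.2 (hBres χ hχ)
      rw [inner_def]
      have hR0 : (Nat.card R : ℂ) ≠ 0 := Chars.card_ne_zero R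
      have h1 : ∑ x : Γ, χ' x * conj (χ' x) = (Nat.card Γ : ℂ) := by
        calc ∑ x : Γ, χ' x * conj (χ' x)
            = ∑ x : Γ, (Nat.card R : ℂ)⁻¹ * ∑ _n : R, χ' x * conj (χ' x) := by
              refine Finset.sum_congr rfl fun x _ => ?_
              rw [Finset.sum_const, Finset.card_univ, nsmul_eq_mul, ← Nat.card_eq_fintype_card,
                inv_mul_cancel_left₀ hR0]
          _ = (Nat.card R : ℂ)⁻¹ * ∑ n : R, ∑ x : Γ, χ' x * conj (χ' x) := by
              rw [← Finset.mul_sum, Finset.sum_comm]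
          _ = (Nat.card R : ℂ)⁻¹ * ∑ n : R, ∑ x : Γ, (χ : G → ℂ) ((n : G) * x) *
                conj ((χ : G → ℂ) ((n : G) * x)) := by
              congr 1
              refine Finset.sum_congr rfl fun n _ =>
                (Fintype.sum_equiv (Equiv.mulLeft (⟨n, hRΓ n.2⟩ : Γ)) _ _ fun x => rfl).symm
          _ = ∑ x : Γ, (1 : ℂ) := by
              rw [Finset.sum_comm, Finset.mul_sum]
              exact Finset.sum_congr rfl fun x _ => hG0 x
          _ = _ := by simp [Nat.card_eq_fintype_card]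
      rw [h1, inv_mul_cancel₀ (Chars.card_ne_zero Γ)]
    -- canonical extension
    let e : R' ≃* R := subgroupOfEquivOfLe hRΓ
    have hθ'irr : IsIrrCharacter R' (fun n => (θ : R → ℂ) (e n)) :=
      isIrrCharacter_comp e.toMonoidHom e.surjective θ.2
    obtain ⟨χh, hcanon⟩ := hsetup.exists_canon (χ := ⟨_, hθ'irr⟩) (by
      intro t ht n n' en
      obtain ⟨j, rfl⟩ := mem_zpowers_iff.1 ht
      refine hθinv (u ^ j) (H.zpow_mem hu j) (e n) (e n') ?_
      have := congrArg Subtype.val en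
      simpa [e, s, subgroupOfEquivOfLe] using this)
    have hχres : (fun n : R' => χ' (n : Γ)) = fun n => (θ : R → ℂ) (e n) :=
      funext fun n => (Finset.mem_filter.1 hχ).2 (e n)
    have hhres : (fun n : R' => (χh : Γ → ℂ) (n : Γ)) = fun n => (θ : R → ℂ) (e n) :=
      funext hcanon.2.2.1
    obtain ⟨μ, hμ, hμe⟩ := CharsMore.gallagher_exists R' χh.2 (by rw [hhres]; exact hθ'irr) hχ'irr
      (by rw [hχres, hhres, inner_irr_of_isIrr hθ'irr hθ'irr, if_pos rfl]; exact one_ne_zero)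
    obtain ⟨β, ε, hε, hβ⟩ := hsetup.exists_beta hcanon
    have hμv : ∀ c : Cs, (μ : Γ → ℂ) ((c : Γ) * s) = (μ : Γ → ℂ) s := fun c =>
      CharsMore.quotIrr_mul R' hμ ⟨c, hsetup.mem_left c⟩ s
    have hval : ∀ c : Cs, χ' ((c : Γ) * s) = (μ : Γ → ℂ) s * (ε : ℂ) * (β : Cs → ℂ) c := fun c => by
      rw [hμe, Pi.mul_apply, hμv, hβ, mul_assoc]
    have hμdeg : (μ : Γ → ℂ) 1 = 1 := by
      have h1 := congrFun hμe 1
      have h2 := congrFun hχres 1
      have h3 := congrFun hhres 1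
      simp only [Pi.mul_apply, OneMemClass.coe_one] at h1 h2 h3
      rw [h2, h3] at h1
      exact mul_right_cancel₀ (irr_degree_ne_zero θ.2)
        (by simpa using h1.symm)
    obtain ⟨μh, hμh⟩ := exists_hom_of_degree_one (isCharacter_of_irr μ.2) hμdeg
    have hμs : (μ : Γ → ℂ) s ≠ 0 := by rw [hμh]; exact Units.ne_zero _
    have hε0 : (ε : ℂ) ≠ 0 := by rcases hε with rfl | rfl <;> simp
    have hval1 : (χ : G → ℂ) u = (μ : Γ → ℂ) s * (ε : ℂ) * (β : Cs → ℂ) 1 := by
      rw [← hval 1]; simp [χ', s]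
    refine ⟨by rw [hval1]; exact mul_ne_zero (mul_ne_zero hμs hε0) (irr_degree_ne_zero β.2),
      fun g v hv hcomm => ?_⟩
    -- transport `β` to `C_R(u)`
    set U := R ⊓ centralizer ({u} : Set G) with hU
    have hUc : ∀ a : U, (⟨⟨a, hRΓ a.2.1⟩, rfl⟩ : {x : Γ // (x : G) = a}).1 ∈ Cs := fun a =>
      hsetup.mem_of_comm (mem_subgroupOf.2 a.2.1)
        (Subtype.ext (mem_centralizer_singleton_iff.1 a.2.2))
    let ι : U →* Cs :=
      { toFun := fun a => ⟨⟨a, hRΓ a.2.1⟩, hUc a⟩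
        map_one' := rfl
        map_mul' := fun _ _ => rfl }
    have hι : Function.Surjective ι := fun c => ⟨⟨((c : Γ) : G),
      mem_subgroupOf.1 (hsetup.mem_left c),
      mem_centralizer_singleton_iff.2 (congrArg Subtype.val (hsetup.comm c).eq)⟩, rfl⟩
    let β' : IrrCharacter U := ⟨fun a => (β : Cs → ℂ) (ι a), isIrrCharacter_comp ι hι β.2⟩
    have hinvβ : InvBy H U (β' : U → ℂ) := by
      intro h hh a a' ea
      have h1 : (χ : G → ℂ) ((a' : G) * u) = (χ : G → ℂ) ((a : G) * u) := by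
        rw [← isClassFunction_irr χ ((a : G) * u) h, ea]
        congr 1
        have : h * u = u * h :=
          congrArg Subtype.val (hab.is_comm.comm (⟨h, hh⟩ : H) ⟨u, hu⟩)
        have h2 : u * h⁻¹ = h⁻¹ * u := by
          calc u * h⁻¹ = h⁻¹ * (h * u) * h⁻¹ := by group
            _ = h⁻¹ * u := by rw [this]; group
        simp only [mul_assoc, h2]
      have h2 : χ' ((ι a' : Γ) * s) = χ' ((ι a : Γ) * s) := h1
      rw [hval, hval] at h2
      exact mul_left_cancel₀ (mul_ne_zero hμs hε0) h2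
    have hvU : v ∈ U := ⟨hQR g hv, mem_centralizer_singleton_iff.2 hcomm.symm.eq⟩
    have hb := inv_char_eq_degree hH hab hcl R hR hu (hind u hu hu1) hQR U rfl β' hinvβ g ⟨v, hvU⟩ hv
    have hb' : (β : Cs → ℂ) (ι ⟨v, hvU⟩) = (β : Cs → ℂ) 1 := by
      have : ι 1 = 1 := map_one ι
      rw [← this]; exact hb
    rw [hval1, ← hb', ← hval, hcomm.eq]
    rfl
  have hconst : CosetConst p H B := by
    intro χ hχ u hu hu1 g w hw
    obtain ⟨c, v, hv, hcomm, e⟩ := exists_conj_mul hH hab hcl hu hw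
    rw [← isClassFunction_irr χ w c, e]
    exact (hkey χ hχ u hu hu1).2 g v hv hcomm
  -- the family vanishes
  have hzero : ∀ χ ∈ B, colDiff H χ = 0 := by
    have hcubic := cubic_identity hH hab hcl hq B hconst horth
    have hq0 : (3 : ℝ) ≤ (Nat.card H : ℝ) := by exact_mod_cast hq
    set q : ℝ := (Nat.card H : ℝ)
    have hle : ∀ χ ∈ B,
        ((q - 1) * (q - 2) - 1) * colDiff H χ ^ 2 ≤
          (q - 1) * ((q - 2) * colDiff H χ ^ 2 - colDiff H χ ^ 3 / degR χ) := by
      intro χ hχ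
      have h := colDiff_le hH hab hcl hq B hconst hχ fun h => hθ1 (Subtype.ext (funext fun n => by
        rw [← (Finset.mem_filter.1 hχ).2 n, eq_oneIrr_of_trivial hgen h]
        rfl))
      have h1 : (q - 1) * (colDiff H χ ^ 3 / degR χ) ≤ colDiff H χ ^ 2 := by
        rw [mul_div_assoc', div_le_iff₀ (degR_pos χ)]
        have := mul_le_mul_of_nonneg_left h (sq_nonneg (colDiff H χ))
        linarith
      linarith
    have hsum : ∑ χ ∈ B, ((q - 1) * (q - 2) - 1) * colDiff H χ ^ 2 ≤ 0 := by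
      refine le_trans (Finset.sum_le_sum hle) (le_of_eq ?_)
      rw [← Finset.mul_sum, Finset.sum_sub_distrib, ← Finset.mul_sum, hcubic, sub_self, mul_zero]
    have hk : (0 : ℝ) < (q - 1) * (q - 2) - 1 := by nlinarith
    intro χ hχ
    have h0 := Finset.single_le_sum (f := fun χ => ((q - 1) * (q - 2) - 1) * colDiff H χ ^ 2)
      (fun χ _ => mul_nonneg hk.le (sq_nonneg _)) hχ
    have h1 : ((q - 1) * (q - 2) - 1) * colDiff H χ ^ 2 ≤ 0 := h0.trans hsum
    have h2 : colDiff H χ ^ 2 ≤ 0 := by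
      by_contra h
      push Not at h
      nlinarith [mul_pos hk h]
    exact pow_eq_zero_iff two_ne_zero |>.1 (le_antisymm h2 (sq_nonneg _))
  -- Fourier inversion on `H`
  set χ₁ : IrrCharacter G := ⟨χ₀, hχ₀⟩
  set φ : H → ℂ := fun u => if u = 1 then 0 else (χ₁ : G → ℂ) u with hφ
  have hφ0 : φ = 0 := by
    refine eq_zero_of_inner_irr (fun g h => by
      rw [show h * g * h⁻¹ = g by rw [hab.is_comm.comm h g, mul_inv_cancel_right]]) fun η => ?_
    obtain ⟨i', hη1⟩ : ∃ m : H →* ℂˣ, ∀ u, (η : H → ℂ) u = (m u : ℂ) := by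
      haveI := hab
      obtain ⟨m, hm⟩ := exists_hom_of_degree_one (isCharacter_of_irr η.2)
        (Chars.irr_abelian_degree hab.is_comm.comm η.2)
      exact ⟨m, fun u => by rw [hm]⟩
    -- extend the inverse character to `G`
    have hbij : Function.Bijective ((QuotientGroup.mk' R).comp H.subtype) := by
      refine ⟨(MonoidHom.ker_eq_bot_iff _).1 (eq_bot_iff.2 fun c hc => ?_), fun x => ?_⟩
      · exact mem_bot.2 (Subtype.ext (eq_one_of_mem_coprime hH c.2 hR
          ((QuotientGroup.eq_one_iff _).1 hc)))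
      · obtain ⟨a, rfl⟩ := QuotientGroup.mk'_surjective R x
        obtain ⟨h, hh, r, hr, rfl⟩ := mem_sup_of_normal_right.1 (hHR ▸ mem_top a : a ∈ H ⊔ R)
        exact ⟨⟨h, hh⟩, QuotientGroup.eq.2 (by simpa using hr)⟩
    let eq' : H ≃* G ⧸ R := MulEquiv.ofBijective _ hbij
    let lam : G →* ℂˣ := (i'⁻¹.comp eq'.symm.toMonoidHom).comp (QuotientGroup.mk' R)
    have hlamR : ∀ n ∈ R, lam n = 1 := fun n hn => by
      simp only [lam, MonoidHom.comp_apply,
        show QuotientGroup.mk' R n = 1 from (QuotientGroup.eq_one_iff n).2 hn, map_one]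
    have hlamH : ∀ u : H, (lam u : ℂ) = conj ((η : H → ℂ) u) := fun u => by
      have : lam u = (i' u)⁻¹ := by
        show i'⁻¹ (eq'.symm (eq' u)) = _
        rw [MulEquiv.symm_apply_apply]; rfl
      rw [this, ← irr_inv η u, hη1, map_inv]
    have h0 := hzero _ (htw lam hlamR χ₁ hχ₀B)
    have h1 := sum_erase_eq H (⟨_, isIrrCharacter_linear_mul lam χ₁.2⟩ : IrrCharacter G)
    rw [h0, Complex.ofReal_zero] at h1
    rw [inner_def]
    refine mul_eq_zero_of_right _ ?_
    rw [← Finset.add_sum_erase _ _ (Finset.mem_univ (1 : H))]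
    rw [show φ 1 = 0 from if_pos rfl, zero_mul, zero_add, ← h1]
    refine Finset.sum_congr rfl fun u hu => ?_
    show φ u * conj ((η : H → ℂ) u) = (lam u : ℂ) * (χ₁ : G → ℂ) u
    rw [hlamH, hφ]
    simp only [if_neg (Finset.mem_erase.1 hu).1]
    ring
  obtain ⟨u, hu⟩ : ∃ u : H, u ≠ 1 := by
    by_contra hno
    push Not at hno
    have : Nat.card H ≤ 1 := Finite.card_le_one_iff_subsingleton.2
      ⟨fun a b => (hno a).trans (hno b).symm⟩
    omega
  have h1 := congrFun hφ0 u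
  simp only [hφ, if_neg hu, Pi.zero_apply] at h1
  exact (hkey χ₁ hχ₀B u u.2 fun h => hu (Subtype.ext h)).1 h1

end CfsgLib.LocalEven.ExtremelyClosedOdd
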