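import Cfsg.Agent.Lib.LocalEven.ExtremelyClosedOdd.Principal
import Cfsg.Agent.Lib.LocalEven.ExtremelyClosedOdd.Ext
import Mathlib.GroupTheory.SchurZassenhaus

/-!
# Extremely closed abelian subgroups for odd primes
-/

set_option autoImplicit false
set_option linter.unusedSectionVars false
set_option linter.style.haveILetI false

namespace CfsgLib.LocalEven.ExtremelyClosedOdd

open Cfsg Subgroup

universe u

variable {G : Type u} [Group G] [Finite G] {p : ℕ} [Fact p.Prime] {H : Subgroup G}

/-- The two conclusions. -/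
def Full (p : ℕ) (H : Subgroup G) : Prop :=
  normalClosure (H : Set G) ⊓ normalizer (H : Set G) = H ∧
    normalizer (H : Set G) ⊔ pPrimeCore p G = ⊤

/-- The `p'`-core of a subgroup as a subgroup of the group. -/
abbrev coreOf (p : ℕ) (L : Subgroup G) : Subgroup G := (pPrimeCore p L).map L.subtype

theorem not_dvd_coreOf (L : Subgroup G) : ¬ p ∣ Nat.card (coreOf p L) := by
  rw [coreOf, card_map_of_injective (subtype_injective _)]
  exact CfsgLib.Base.not_dvd_card_pPrimeCore p _

theorem le_normalizer_coreOf (L : Subgroup G) : L ≤ normalizer (coreOf p L : Set G) :=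
  CfsgLib.Base.le_normalizer_map_pPrimeCore L

theorem coreOf_le (L : Subgroup G) [L.Normal] : coreOf p L ≤ pPrimeCore p G := by
  haveI : (coreOf p L).Normal := by
    haveI : (pPrimeCore p L).Characteristic := Subgroup.characteristic_iff_map_eq.2 fun e =>
      CfsgLib.Base.map_pPrimeCore_mulEquiv e
    exact ConjAct.normal_of_characteristic_of_normal
  exact CfsgLib.Base.le_pPrimeCore_of_not_dvd (not_dvd_coreOf L)

theorem mem_sup_core (hH : IsPGroup p H) (hcl : IsExtremelyClosed H) {L : Subgroup G}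
    (hHL : H ≤ L) (hgood : Full p (H.subgroupOf L)) {g w : G} (hwL : w ∈ L)
    (hw : w ∈ pairGroup H g) : w ∈ H ⊔ coreOf p L := by
  have hnorm : H ≤ normalizer (coreOf p L : Set G) := hHL.trans (le_normalizer_coreOf L)
  refine mem_sup_of_pair hH hcl (not_dvd_coreOf L) hnorm hw fun y hy => ?_
  haveI : (pPrimeCore p L).Normal := Cfsg.pPrimeCore_normal p L
  have h1 : (⟨w, hwL⟩ : L) ∈ normalizer ((H.subgroupOf L : Subgroup L) : Set L) ⊔ pPrimeCore p L := by
    rw [hgood.2]; trivial
  rw [mem_sup_of_normal_right] at h1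
  obtain ⟨n, hn, o, ho, e⟩ := h1
  have e' : w = (n : G) * o := (congrArg Subtype.val e).symm
  have hoR : (o : G) ∈ coreOf p L := mem_map_of_mem _ ho
  subst e'
  have h1 : y⁻¹ * (o : G) * y ∈ coreOf p L := by
    have := (mem_normalizer_iff.1 (hnorm (H.inv_mem hy)) (o : G)).1 hoR
    simpa using this
  have h2 := (coreOf p L).mul_mem h1 ((coreOf p L).inv_mem hoR)
  have h3 := (H ⊔ coreOf p L).mul_mem
    (mem_sup_left ((mem_normalizer_iff.1 hn ⟨y, hHL hy⟩).1 hy : (n : G) * y * (n : G)⁻¹ ∈ H))
    (mem_sup_right ((mem_normalizer_iff.1 (le_normalizer_coreOf L n.2) _).1 h2))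
  simpa [mul_assoc] using h3

theorem mem_core_of_commute (hH : IsPGroup p H) (hab : IsMulCommutative H)
    (hcl : IsExtremelyClosed H) {u g v : G} (hu : u ∈ H)
    (hgood : Full p (H.subgroupOf (centralizer ({u} : Set G))))
    (hv : v ∈ pairCore p H g) (hcomm : Commute u v) :
    v ∈ coreOf p (centralizer ({u} : Set G)) := by
  set C := centralizer ({u} : Set G)
  have hHC : H ≤ C := fun h hh => mem_centralizer_singleton_iff.2
    (congrArg Subtype.val (hab.is_comm.comm (⟨h, hh⟩ : H) ⟨u, hu⟩))
  have hvC : v ∈ C := mem_centralizer_singleton_iff.2 hcomm.symm.eq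
  have h1 := mem_sup_core hH hcl hHC hgood hvC (pairCore_le g hv)
  haveI : (pPrimeCore p C).Normal := Cfsg.pPrimeCore_normal p C
  have h2 : (⟨v, hvC⟩ : C) ∈ H.subgroupOf C ⊔ pPrimeCore p C := by
    rw [← Subgroup.mem_map_iff_mem (subtype_injective C), Subgroup.map_sup,
      map_subgroupOf_eq_of_le hHC]
    exact h1
  have hreg : ¬ p ∣ orderOf (⟨v, hvC⟩ : C) := by
    rw [← Subgroup.orderOf_coe]
    exact fun hd => not_dvd_pairCore g (hd.trans (Subgroup.orderOf_dvd_natCard _ hv))
  exact mem_map_of_mem C.subtype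
    (mem_of_coprime_of_mem_sup (hH.of_equiv (subgroupOfEquivOfLe hHC).symm) h2 hreg)

theorem eq_top_of_conj_le (hH : IsPGroup p H)
    (h : ∀ g : G, ∀ y ∈ H, g * y * g⁻¹ ∈ H ⊔ pPrimeCore p G) :
    normalizer (H : Set G) ⊔ pPrimeCore p G = ⊤ := by
  haveI : (pPrimeCore p G).Normal := Cfsg.pPrimeCore_normal p G
  refine eq_top_iff.2 fun g _ => ?_
  obtain ⟨t, ht, htH⟩ := exists_conj_of_card (T := H ⊔ pPrimeCore p G)
    (S := H.map (MulAut.conj g).toMonoidHom) hH (CfsgLib.Base.not_dvd_card_pPrimeCore p G)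
    le_normalizer_of_normal le_sup_left le_rfl (by
      rintro _ ⟨y, hy, rfl⟩
      exact h g y hy) (card_conj g)
  have hn : g⁻¹ * t ∈ normalizer (H : Set G) := mem_normalizer_fintype fun y hy => by
    obtain ⟨z, hz, e⟩ := (htH y).1 hy
    have e' : g * z * g⁻¹ = t * y * t⁻¹ := e
    have e2 : g⁻¹ * t * y * (g⁻¹ * t)⁻¹ = z := by
      calc g⁻¹ * t * y * (g⁻¹ * t)⁻¹ = g⁻¹ * (t * y * t⁻¹) * g := by group
        _ = z := by rw [← e']; group
    show _ ∈ H
    rw [e2]; exact hz
  have h2 := (normalizer (H : Set G) ⊔ pPrimeCore p G).mul_mem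
    ((sup_le_sup_right le_normalizer _ : H ⊔ pPrimeCore p G ≤ _) ht)
    (mem_sup_left ((normalizer (H : Set G)).inv_mem hn))
  simpa [mul_assoc] using h2

theorem normalClosure_subgroupOf_self (hH : IsPGroup p H) (hab : IsMulCommutative H)
    (hcl : IsExtremelyClosed H) :
    closIn H (normalClosure (H : Set G)) = normalClosure (H : Set G) := by
  set L := normalClosure (H : Set G)
  refine le_antisymm (closIn_le H L) ?_
  have hHL : H ≤ L := subset_normalClosure
  show normalClosure (H : Set G) ≤ closIn H L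
  refine (closure_le _).2 fun x hx => ?_
  obtain ⟨y, hy, hxy⟩ := Group.mem_conjugatesOfSet_iff.1 hx
  obtain ⟨g, rfl⟩ := isConj_iff.1 hxy
  obtain ⟨k, hk, hkH⟩ := exists_core_conj (p := p) hH hab hcl g
  have hkL : k ∈ L := (pair_le_of_conj hHL fun a ha =>
    normalClosure_normal.conj_mem a (hHL ha) g) (pairCore_le g hk)
  have h1 : k⁻¹ * (g * y * g⁻¹) * k ∈ H := by
    refine (hkH _).2 ?_
    rw [show g⁻¹ * (k * (k⁻¹ * (g * y * g⁻¹) * k) * k⁻¹) * g = y by group]
    exact hy
  have h2 := conj_mem_closIn hkL (le_closIn hHL h1)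
  show g * y * g⁻¹ ∈ closIn H L
  simpa [mul_assoc] using h2

theorem full_main : ∀ (m : ℕ) (G : Type u) [Group G] [Finite G], Nat.card G = m →
    ∀ H : Subgroup G, p ≠ 2 → IsPGroup p H → IsMulCommutative H → IsExtremelyClosed H →
      Full p H := by
  intro m
  induction m using Nat.strong_induction_on with
  | _ m ih =>
    intro G _ _ hm H hp hH hab hcl
    have hgood : ∀ L : Subgroup G, H ≤ L → L ≠ ⊤ → Full p (H.subgroupOf L) := by
      intro L hHL hL
      refine ih (Nat.card L) ?_ L rfl _ hp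
        (hH.of_equiv (subgroupOfEquivOfLe hHL).symm) ?_ (isExtremelyClosed_subgroupOf hcl hHL)
      · rw [← hm]
        exact lt_of_le_of_ne (Subgroup.card_le_card_group L) fun h => hL (eq_top_of_card_eq L h)
      · exact ⟨⟨fun a b => Subtype.ext (Subtype.ext
          (congrArg Subtype.val (hab.is_comm.comm (⟨_, a.2⟩ : H) ⟨_, b.2⟩) : _))⟩⟩
    have hclos : ∀ L : Subgroup G, H ≤ L → L ≠ ⊤ → closIn H L ⊓ normalizer (H : Set G) = H := by
      intro L hHL hL
      refine le_antisymm ?_ (le_inf (le_closIn hHL) le_normalizer)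
      rintro x ⟨⟨a, ha, rfl⟩, hn⟩
      have : a ∈ normalClosure ((H.subgroupOf L : Subgroup L) : Set L) ⊓
          normalizer ((H.subgroupOf L : Subgroup L) : Set L) :=
        ⟨ha, mem_normalizer_fintype fun b hb => (mem_normalizer_iff.1 hn (b : G)).1 hb⟩
      rw [(hgood L hHL hL).1] at this
      exact this
    have hHC : ∀ u ∈ H, H ≤ centralizer ({u} : Set G) := fun u hu h hh =>
      mem_centralizer_singleton_iff.2
        (congrArg Subtype.val (hab.is_comm.comm (⟨h, hh⟩ : H) ⟨u, hu⟩))
    haveI : (pPrimeCore p G).Normal := Cfsg.pPrimeCore_normal p G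
    set L := normalClosure (H : Set G) with hL
    have hHL : H ≤ L := subset_normalClosure
    by_cases hLtop : L = ⊤
    swap
    · refine ⟨?_, eq_top_of_conj_le hH fun g y hy => ?_⟩
      · conv_lhs => rw [← normalClosure_subgroupOf_self (p := p) hH hab hcl]
        exact hclos L hHL hLtop
      · have hwL : g * y * g⁻¹ ∈ L := normalClosure_normal.conj_mem y (hHL hy) g
        exact (sup_le_sup_left (coreOf_le L) H)
          (mem_sup_core hH hcl hHL (hgood L hHL hLtop) hwL (conj_mem_pair g hy))
    -- `G` is generated by the conjugates of `H`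
    suffices hmain : normalizer (H : Set G) = H ∧ H ⊔ pPrimeCore p G = ⊤ by
      refine ⟨?_, eq_top_iff.2 (hmain.2 ▸ sup_le_sup_right le_normalizer _)⟩
      rw [← hL, hLtop, top_inf_eq, hmain.1]
    by_cases hH1 : H = ⊥
    · have hG : (⊤ : Subgroup G) ≤ ⊥ := by
        rw [← hLtop, hL, hH1]
        exact normalClosure_le_normal (fun x hx => hx)
      refine ⟨?_, eq_top_iff.2 (hG.trans bot_le)⟩
      rw [hH1]
      exact le_antisymm (le_top.trans hG) bot_le
    have hq : 3 ≤ Nat.card H := by
      obtain ⟨i, hi⟩ := IsPGroup.iff_card.1 hH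
      have hi0 : i ≠ 0 := fun h => hH1 (eq_bot_of_card_eq H (by rw [hi, h, pow_zero]))
      have := (Fact.out : p.Prime).two_le
      calc 3 ≤ p := by omega
        _ ≤ Nat.card H := by rw [hi]; exact Nat.le_self_pow hi0 p
    -- quotients
    have hquot : ∀ (N : Subgroup G) [N.Normal], N ≠ ⊥ →
        (∀ g x : G, x ∈ pairGroup H g → (∀ y ∈ H, x * y * x⁻¹ ∈ H ⊔ N) → x ∈ H ⊔ N) →
        normalizer ((H.map (QuotientGroup.mk' N) : Subgroup (G ⧸ N)) : Set (G ⧸ N)) =
            H.map (QuotientGroup.mk' N) ∧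
          H.map (QuotientGroup.mk' N) ⊔ pPrimeCore p (G ⧸ N) = ⊤ := by
      intro N _ hN1 hN
      set π := QuotientGroup.mk' N with hπ
      have hlt : Nat.card (G ⧸ N) < m := by
        rw [← hm, Subgroup.card_eq_card_quotient_mul_card_subgroup N]
        exact lt_mul_of_one_lt_right Nat.card_pos ((one_lt_card_iff_ne_bot N).2 hN1)
      have hab' : IsMulCommutative (H.map π) := ⟨⟨fun a b => by
        obtain ⟨_, a, ha, rfl⟩ := a
        obtain ⟨_, b, hb, rfl⟩ := b
        refine Subtype.ext ?_
        show π a * π b = π b * π a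
        rw [← map_mul, ← map_mul]
        exact congrArg π (congrArg Subtype.val (hab.is_comm.comm (⟨a, ha⟩ : H) ⟨b, hb⟩))⟩⟩
      have hf := ih _ hlt (G ⧸ N) rfl (H.map π) hp (hH.map π) hab' (isExtremelyClosed_map N hN)
      have htop : normalClosure ((H.map π : Subgroup (G ⧸ N)) : Set (G ⧸ N)) = ⊤ := by
        rw [coe_map, ← map_normalClosure _ π (QuotientGroup.mk'_surjective N), ← hL, hLtop,
          map_top_of_surjective π (QuotientGroup.mk'_surjective N)]
      have h1 := hf.1
      rw [htop, top_inf_eq] at h1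
      exact ⟨h1, by rw [← hf.2, h1]⟩
    by_cases hcen : ∃ u ∈ H, u ≠ 1 ∧ ∀ a : G, Commute u a
    · obtain ⟨u, hu, hu1, hcomm⟩ := hcen
      set Z := zpowers u
      haveI : Z.Normal := ⟨fun z hz a => by
        obtain ⟨i, rfl⟩ := mem_zpowers_iff.1 hz
        rw [((hcomm a).zpow_left i).symm.eq, mul_inv_cancel_right]
        exact zpow_mem (mem_zpowers u) i⟩
      have hZH : Z ≤ H := zpowers_le.2 hu
      have hHZ : H ⊔ Z = H := sup_eq_left.2 hZH
      obtain ⟨h1, h2⟩ := hquot Z (fun h => hu1 (zpowers_eq_bot.1 h)) (fun g x hx hxn => by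
        rw [hHZ] at hxn ⊢
        exact mem_of_pair_normalizer hcl hx (mem_normalizer_fintype hxn))
      set π := QuotientGroup.mk' Z with hπ
      have hcomap : ∀ y : G, π y ∈ H.map π ↔ y ∈ H := fun y => by
        rw [← Subgroup.mem_comap, comap_map_eq_self (by rw [hπ, QuotientGroup.ker_mk']; exact hZH)]
      refine ⟨le_antisymm (fun x hx => (hcomap x).1 ?_) le_normalizer, ?_⟩
      · rw [← h1]
        refine mem_normalizer_fintype fun b hb => ?_
        obtain ⟨b, hb, rfl⟩ := hb
        show _ ∈ H.map π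
        rw [← map_mul, ← map_inv, ← map_mul]
        exact mem_map_of_mem π ((mem_normalizer_iff.1 hx b).1 hb)
      · refine eq_top_iff.2 fun g _ => ?_
        haveI : (pPrimeCore p (G ⧸ Z)).Normal := Cfsg.pPrimeCore_normal p _
        have h3 : π g ∈ H.map π ⊔ pPrimeCore p (G ⧸ Z) := by rw [h2]; trivial
        rw [mem_sup_of_normal_right] at h3
        obtain ⟨_, ⟨h, hh, rfl⟩, o, ho, e⟩ := h3
        set R' := (pPrimeCore p (G ⧸ Z)).comap π with hR'
        have hgR : h⁻¹ * g ∈ R' := by
          show π (h⁻¹ * g) ∈ pPrimeCore p (G ⧸ Z)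
          rw [map_mul, map_inv, ← e, inv_mul_cancel_left]
          exact ho
        have hZR : Z ≤ R' := fun z hz => by
          show π z ∈ pPrimeCore p (G ⧸ Z)
          rw [show π z = 1 from (QuotientGroup.eq_one_iff z).2 hz]
          exact one_mem _
        have hidx : Z.relIndex R' = Nat.card (pPrimeCore p (G ⧸ Z)) := by
          have hbot : Z = (⊥ : Subgroup (G ⧸ Z)).comap π := by
            rw [MonoidHom.comap_bot, hπ, QuotientGroup.ker_mk']
          conv_lhs => rw [hbot]
          rw [hR', relIndex_comap, map_comap_eq_self_of_surjective (QuotientGroup.mk'_surjective Z),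
            relIndex_bot_left]
        obtain ⟨j, hj⟩ := IsPGroup.iff_card.1 (hH.to_le hZH)
        obtain ⟨K, hK⟩ := Subgroup.exists_right_complement'_of_coprime (N := Z.subgroupOf R') (by
          rw [Nat.card_congr (subgroupOfEquivOfLe hZR).toEquiv, hj]
          change Nat.Coprime (p ^ j) (Z.relIndex R')
          rw [hidx]
          exact coprime_pow_of_not_dvd (CfsgLib.Base.not_dvd_card_pPrimeCore p _) j)
        haveI : K.Normal := ⟨fun c hc a => by
          obtain ⟨⟨z, k⟩, hzk, -⟩ := hK.existsUnique a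
          obtain ⟨i, hi⟩ := mem_zpowers_iff.1 (mem_subgroupOf.1 z.2)
          have hzc : ∀ b : R', (z : R') * b = b * (z : R') := fun b => Subtype.ext (by
            show ((z : R') : G) * (b : G) = (b : G) * ((z : R') : G)
            rw [← hi]; exact ((hcomm b).zpow_left i).eq)
          have hzk' : (z : R') * (k : R') = a := hzk
          rw [← hzk', show (z : R') * (k : R') * c * ((z : R') * (k : R'))⁻¹ =
            (z : R') * ((k : R') * c * (k : R')⁻¹) * (z : R')⁻¹ by group, hzc, mul_inv_cancel_right]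
          exact K.mul_mem (K.mul_mem k.2 hc) (K.inv_mem k.2)⟩
        have hKc : ¬ p ∣ Nat.card K := by
          rw [← hK.symm.index_eq_card]
          change ¬ p ∣ Z.relIndex R'
          rw [hidx]
          exact CfsgLib.Base.not_dvd_card_pPrimeCore p _
        obtain ⟨⟨z, k⟩, hzk, -⟩ := hK.existsUnique ⟨_, hgR⟩
        have hzk' : ((z : R') : G) * ((k : R') : G) = h⁻¹ * g := congrArg Subtype.val hzk
        have hkO : ((k : R') : G) ∈ pPrimeCore p G := coreOf_le R'
          (mem_map_of_mem R'.subtype (CfsgLib.Base.le_pPrimeCore_of_not_dvd hKc k.2))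
        have h4 := (H ⊔ pPrimeCore p G).mul_mem (mem_sup_left hh)
          ((H ⊔ pPrimeCore p G).mul_mem
            (mem_sup_left (hZH (mem_subgroupOf.1 z.2))) (mem_sup_right hkO))
        rw [hzk', mul_inv_cancel_left] at h4
        exact h4
    push Not at hcen
    have hCtop : ∀ u ∈ H, u ≠ 1 → centralizer ({u} : Set G) ≠ ⊤ := by
      intro u hu hu1 htop
      obtain ⟨a, ha⟩ := hcen u hu hu1
      exact ha (mem_centralizer_singleton_iff.1 (htop ▸ mem_top a : a ∈ centralizer ({u} : Set G))).symm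
    have hfixed : ∀ R : Subgroup G, R.Normal → ¬ p ∣ Nat.card R → H ⊔ R = ⊤ →
        normalizer (H : Set G) = H ∧ H ⊔ pPrimeCore p G = ⊤ := by
      intro R _ hR hHR
      refine ⟨le_antisymm (fun x hx => ?_) le_normalizer,
        eq_top_iff.2 (hHR ▸ sup_le_sup_left (CfsgLib.Base.le_pPrimeCore_of_not_dvd hR) H)⟩
      obtain ⟨h, hh, r, hr, rfl⟩ := mem_sup_of_normal_right.1 (hHR ▸ mem_top x : x ∈ H ⊔ R)
      have hr' : r ∈ normalizer (H : Set G) := by
        have := (normalizer (H : Set G)).mul_mem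
          ((normalizer (H : Set G)).inv_mem (le_normalizer hh)) hx
        simpa using this
      have hrC : r ∈ R ⊓ centralizer (H : Set G) := by
        refine ⟨hr, mem_centralizer_iff.2 fun y hy => ?_⟩
        have h1 : r * y * r⁻¹ * y⁻¹ ∈ R := by
          have := R.mul_mem hr ((inferInstance : R.Normal).conj_mem _ (R.inv_mem hr) y)
          simpa [mul_assoc] using this
        have h2 := H.mul_mem ((mem_normalizer_iff.1 hr' y).1 hy) (H.inv_mem hy)
        have h3 := eq_one_of_mem_coprime hH h2 hR h1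
        rw [mul_inv_eq_one, mul_inv_eq_iff_eq_mul] at h3
        exact h3.symm
      rw [fixed_eq_bot hH hab hcl hq R hR hHR hLtop
        (fun u hu hu1 => hclos _ (hHC u hu) (hCtop u hu hu1))] at hrC
      rw [mem_bot.1 hrC, mul_one]
      exact hh
    by_cases hR : pPrimeCore p G = ⊥
    swap
    · obtain ⟨h1, h2⟩ := hquot (pPrimeCore p G) hR fun g x hx hxn =>
        mem_sup_of_pair hH hcl (CfsgLib.Base.not_dvd_card_pPrimeCore p G) le_normalizer_of_normal hx hxn
      rw [CfsgLib.Base.pPrimeCore_quotient_pPrimeCore, sup_bot_eq] at h2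
      refine hfixed _ inferInstance (CfsgLib.Base.not_dvd_card_pPrimeCore p G) ?_
      have := congrArg (Subgroup.comap (QuotientGroup.mk' (pPrimeCore p G))) h2
      rwa [comap_map_eq, QuotientGroup.ker_mk', comap_top] at this
    -- trivial `p'`-core: the counting argument
    by_cases hfus : ∃ u ∈ H, ∃ u' ∈ H, u ≠ 1 ∧ u' ≠ u ∧ IsConj u u'
    · exact (principal_false hH hab hcl hq hLtop (fun u hu hu1 g v hv hc =>
        mem_core_of_commute hH hab hcl hu (hgood _ (hHC u hu) (hCtop u hu hu1)) hv hc)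
        (Or.inl hfus)).elim
    push Not at hfus
    have hcentral : ∀ x ∈ normalizer (H : Set G), x ∈ centralizer (H : Set G) := by
      intro x hx
      refine mem_centralizer_iff.2 fun y hy => ?_
      by_cases hy1 : y = 1
      · rw [hy1, one_mul, mul_one]
      have h1 : x * y * x⁻¹ = y := by
        by_contra hne
        exact hfus y hy _ ((mem_normalizer_iff.1 hx y).1 hy) hy1 hne (isConj_iff.2 ⟨x, rfl⟩)
      exact (mul_inv_eq_iff_eq_mul.1 h1).symm
    obtain ⟨P, hHP⟩ := hH.exists_le_sylow
    have hPn := (CfsgLib.LocalEven.ExtremelyClosed.stronglyClosed H hcl P hHP).1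
    by_cases hPH : H = (P : Subgroup G)
    · -- Burnside
      have hB : normalizer ((P : Subgroup G) : Set G) ≤ centralizer ((P : Subgroup G) : Set G) := by
        rw [← hPH]; exact hcentral
      have hK := MonoidHom.ker_transferSylow_isComplement' P hB
      set K := (MonoidHom.transferSylow P hB).ker
      have hKp : ¬ p ∣ Nat.card K := by
        rw [← hK.index_eq_card]
        exact P.not_dvd_index
      refine hfixed K inferInstance hKp ?_
      rw [hPH]
      exact hK.symm.sup_eq_top
    · refine (principal_false hH hab hcl hq hLtop (fun u hu hu1 g v hv hc =>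
        mem_core_of_commute hH hab hcl hu (hgood _ (hHC u hu) (hCtop u hu hu1)) hv hc)
        (Or.inr ⟨(P : Subgroup G), P.2, fun u hu x hx => mem_centralizer_singleton_iff.2
          ((mem_centralizer_iff.1 (hcentral x (hPn hx)) u hu).symm), ?_⟩)).elim
      have hlt : Nat.card H < Nat.card (P : Subgroup G) :=
        lt_of_le_of_ne (Subgroup.card_le_of_le hHP) fun e => hPH (eq_of_le_of_card_ge hHP e.ge)
      obtain ⟨i, hi⟩ := IsPGroup.iff_card.1 hH
      obtain ⟨j, hj⟩ := IsPGroup.iff_card.1 P.2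
      rw [hi, hj] at hlt ⊢
      have hij : i < j := by
        by_contra h
        push Not at h
        exact absurd (Nat.pow_le_pow_right (Fact.out : p.Prime).pos h) (not_le.2 hlt)
      rw [← pow_succ']
      exact Nat.pow_le_pow_right (Fact.out : p.Prime).pos hij

theorem extremely_closed_odd {G : Type u} [Group G] [Finite G] {p : ℕ} [Fact p.Prime] (hp : p ≠ 2)
    (H : Subgroup G) (hH : IsPGroup p H) (hab : IsMulCommutative H) (hcl : IsExtremelyClosed H) :
    normalClosure (H : Set G) ⊓ normalizer (H : Set G) = H ∧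
      normalizer (H : Set G) ⊔ pPrimeCore p G = ⊤ :=
  full_main (p := p) _ G rfl H hp hH hab hcl

end CfsgLib.LocalEven.ExtremelyClosedOdd
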