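import Cfsg.Agent.Lib.Base.Cores
import Cfsg.Agent.Lib.PLocal.Quadratic
import Cfsg.Agent.Lib.LocalEven.ExtremelyClosed
import Cfsg.Agent.Lib.BlockOrth.PPart

/-!
# Extremely closed abelian subgroups: the group generated by two conjugates
-/

set_option autoImplicit false
set_option linter.unusedSectionVars false
set_option linter.style.haveILetI false

namespace CfsgLib.LocalEven.ExtremelyClosedOdd

open Cfsg Subgroup

variable {G : Type*} [Group G] [Finite G] {p : ℕ} [hp : Fact p.Prime]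

theorem coprime_pow_of_not_dvd {m : ℕ} (h : ¬ p ∣ m) (k : ℕ) : (p ^ k).Coprime m :=
  ((Fact.out : p.Prime).coprime_iff_not_dvd.2 h).pow_left k

theorem eq_one_of_mem_coprime {x : G} {H R : Subgroup G} (hH : IsPGroup p H) (hxH : x ∈ H)
    (hR : ¬ p ∣ Nat.card R) (hxR : x ∈ R) : x = 1 := by
  obtain ⟨n, hn⟩ := (IsPGroup.iff_orderOf.1 hH) ⟨x, hxH⟩
  rw [← Subgroup.orderOf_coe] at hn
  rw [← orderOf_eq_one_iff]
  exact Nat.eq_one_of_dvd_coprimes (coprime_pow_of_not_dvd hR n) (dvd_of_eq hn)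
    (Subgroup.orderOf_dvd_natCard _ hxR)

/-- An element of order prime to `p` in `H N`, `H` a `p`-group, lies in `N`. -/
theorem mem_of_coprime_of_mem_sup {H N : Subgroup G} [N.Normal] (hH : IsPGroup p H) {v : G}
    (hv : v ∈ H ⊔ N) (hodd : ¬ p ∣ orderOf v) : v ∈ N := by
  rw [mem_sup_of_normal_right] at hv
  obtain ⟨h, hh, r, hr, rfl⟩ := hv
  set π := QuotientGroup.mk' N
  have e : π (h * r) = π h := by
    rw [map_mul, show π r = 1 from (QuotientGroup.eq_one_iff r).2 hr, mul_one]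
  obtain ⟨m, hm⟩ := (IsPGroup.iff_orderOf.1 hH) ⟨h, hh⟩
  rw [← Subgroup.orderOf_coe] at hm
  have h1 : orderOf (π (h * r)) ∣ p ^ m := by
    rw [e, ← hm]
    exact orderOf_map_dvd π h
  exact (QuotientGroup.eq_one_iff _).1 (orderOf_eq_one_iff.1
    (Nat.eq_one_of_dvd_coprimes (coprime_pow_of_not_dvd hodd m) h1 (orderOf_map_dvd π _)))

/-- Two subgroups of order `|H|` in a subgroup of `H R` containing `H` are conjugate there. -/
theorem exists_conj_of_card {H R T S : Subgroup G} (hH : IsPGroup p H) (hR : ¬ p ∣ Nat.card R)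
    (hHR : H ≤ normalizer (R : Set G)) (hHT : H ≤ T) (hT : T ≤ H ⊔ R) (hST : S ≤ T)
    (hS : Nat.card S = Nat.card H) :
    ∃ t ∈ T, ∀ y, y ∈ H ↔ t * y * t⁻¹ ∈ S := by
  obtain ⟨n, hn⟩ := IsPGroup.iff_card.1 hH
  have hdvd : Nat.card T ∣ Nat.card H * Nat.card R := by
    have h := CfsgLib.PLocal.card_sup_mul_card_inf H R hHR
    exact (card_dvd_of_le hT).trans (Dvd.intro _ h)
  have hmax : ∀ P : Sylow p ↥T, Nat.card (P : Subgroup ↥T) ∣ Nat.card H := by
    intro P
    obtain ⟨m, hm⟩ := IsPGroup.iff_card.1 P.2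
    have h1 : Nat.card (P : Subgroup ↥T) ∣ Nat.card H * Nat.card R :=
      (card_subgroup_dvd_card _).trans hdvd
    refine Nat.Coprime.dvd_of_dvd_mul_right ?_ h1
    rw [hm]
    exact coprime_pow_of_not_dvd hR m
  have key : ∀ S' : Subgroup G, S' ≤ T → Nat.card S' = Nat.card H →
      ∃ P : Sylow p ↥T, (P : Subgroup ↥T) = S'.subgroupOf T := by
    intro S' hle hc
    have hp' : IsPGroup p (S'.subgroupOf T) :=
      IsPGroup.of_card (n := n) (by
        rw [Nat.card_congr (subgroupOfEquivOfLe hle).toEquiv, hc, hn])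
    obtain ⟨P, hP⟩ := hp'.exists_le_sylow
    refine ⟨P, (eq_of_le_of_card_ge hP ?_).symm⟩
    rw [Nat.card_congr (subgroupOfEquivOfLe hle).toEquiv, hc]
    exact Nat.le_of_dvd Nat.card_pos (hmax P)
  obtain ⟨P, hP⟩ := key H hHT rfl
  obtain ⟨Q, hQ⟩ := key S hST hS
  obtain ⟨t, ht⟩ := MulAction.exists_smul_eq ↥T P Q
  refine ⟨t, t.2, fun y => ⟨fun hy => ?_, fun hy => ?_⟩⟩
  · have h1 : (⟨y, hHT hy⟩ : ↥T) ∈ (P : Subgroup ↥T) := by rw [hP]; exact hy
    have h2 : t * ⟨y, hHT hy⟩ * t⁻¹ ∈ (Q : Subgroup ↥T) := by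
      rw [← ht, Sylow.coe_subgroup_smul]
      exact ⟨_, h1, rfl⟩
    rw [hQ] at h2
    exact h2
  · have hyT : y ∈ T := by
      have := T.mul_mem (T.mul_mem (T.inv_mem t.2) (hST hy)) t.2
      simpa [mul_assoc] using this
    have h1 : t * ⟨y, hyT⟩ * t⁻¹ ∈ (Q : Subgroup ↥T) := by rw [hQ]; exact hy
    rw [← ht, Sylow.coe_subgroup_smul] at h1
    obtain ⟨z, hz, e⟩ := h1
    have : z = ⟨y, hyT⟩ := mul_left_cancel (mul_right_cancel e)
    rw [hP, this] at hz
    exact hz

section pair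

variable {H : Subgroup G} (hH : IsPGroup p H) (hab : IsMulCommutative H)
  (hcl : IsExtremelyClosed H)

/-- `⟨H, g H g⁻¹⟩`. -/
abbrev pairGroup (H : Subgroup G) (g : G) : Subgroup G := H ⊔ H.map (MulAut.conj g).toMonoidHom

theorem left_le_pair (g : G) : H ≤ pairGroup H g := le_sup_left

theorem conj_mem_pair (g : G) {y : G} (hy : y ∈ H) : g * y * g⁻¹ ∈ pairGroup H g :=
  mem_sup_right ⟨y, hy, rfl⟩

theorem card_conj (g : G) : Nat.card ↥(H.map (MulAut.conj g).toMonoidHom) = Nat.card H :=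
  card_map_of_injective (MulAut.conj g).injective

theorem pair_le_of_conj {L : Subgroup G} (hHL : H ≤ L) {g : G}
    (h : ∀ y ∈ H, g * y * g⁻¹ ∈ L) : pairGroup H g ≤ L :=
  sup_le hHL (by rintro _ ⟨y, hy, rfl⟩; exact h y hy)

/-- The normal `p`-complement of `H` in `⟨H, g H g⁻¹⟩`. -/
abbrev pairCore (p : ℕ) (H : Subgroup G) (g : G) : Subgroup G :=
  (pPrimeCore p ↥(pairGroup H g)).map (pairGroup H g).subtype

theorem pairCore_le (g : G) : pairCore p H g ≤ pairGroup H g := map_subtype_le _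

theorem pair_le_normalizer (g : G) : pairGroup H g ≤ normalizer (pairCore p H g : Set G) :=
  CfsgLib.Base.le_normalizer_map_pPrimeCore _

theorem not_dvd_pairCore (g : G) : ¬ p ∣ Nat.card (pairCore p H g) := by
  rw [pairCore, card_map_of_injective (subtype_injective _)]
  exact CfsgLib.Base.not_dvd_card_pPrimeCore p _

include hH hab hcl in
theorem sup_pairCore (g : G) :
    H ⊔ pairCore p H g = pairGroup H g ∧ H ⊓ pairCore p H g = ⊥ :=
  CfsgLib.LocalEven.ExtremelyClosed.abelian_decomp H hH hab hcl g _ rfl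

include hcl in
theorem mem_of_pair_normalizer {g x : G} (hx : x ∈ pairGroup H g)
    (hn : x ∈ normalizer (H : Set G)) : x ∈ H := by
  rw [← hcl g]
  exact ⟨hx, hn⟩

include hH hcl in
theorem pairCore_inf_normalizer {g x : G} (hx : x ∈ pairCore p H g)
    (hn : x ∈ normalizer (H : Set G)) : x = 1 :=
  eq_one_of_mem_coprime hH (mem_of_pair_normalizer hcl (pairCore_le g hx) hn) (not_dvd_pairCore g) hx

include hH hab hcl in
/-- The conjugate `g H g⁻¹` is `k H k⁻¹` for some `k` in the normal complement. -/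
theorem exists_core_conj (g : G) :
    ∃ k ∈ pairCore p H g, ∀ y, y ∈ H ↔ g⁻¹ * (k * y * k⁻¹) * g ∈ H := by
  obtain ⟨hsup, -⟩ := sup_pairCore hH hab hcl g
  have hnorm : H ≤ normalizer (pairCore p H g : Set G) :=
    (left_le_pair g).trans (pair_le_normalizer g)
  obtain ⟨t, ht, htH⟩ := exists_conj_of_card hH (not_dvd_pairCore g) hnorm (left_le_pair g)
    hsup.ge le_sup_right (card_conj g)
  have h1 : t ∈ ((H ⊔ pairCore p H g : Subgroup G) : Set G) := by rw [hsup]; exact ht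
  rw [sup_comm, coe_mul_of_right_le_normalizer_left _ _ hnorm] at h1
  obtain ⟨k, hk, h, hh, rfl⟩ := h1
  refine ⟨k, hk, fun y => ?_⟩
  have e : ∀ y, k * y * k⁻¹ ∈ H.map (MulAut.conj g).toMonoidHom ↔
      g⁻¹ * (k * y * k⁻¹) * g ∈ H := by
    intro y
    constructor
    · rintro ⟨z, hz, e⟩
      rw [← e]
      simpa [MulAut.conj_apply, mul_assoc] using hz
    · intro hz
      exact ⟨_, hz, by simp [MulAut.conj_apply, mul_assoc]⟩
  rw [← e]
  constructor
  · intro hy
    have hy' : h⁻¹ * y * h ∈ H := H.mul_mem (H.mul_mem (H.inv_mem hh) hy) hh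
    have := (htH _).1 hy'
    simpa [mul_assoc] using this
  · intro hy
    have hy' : (k * h) * (h⁻¹ * y * h) * (k * h)⁻¹ ∈ H.map (MulAut.conj g).toMonoidHom := by
      simpa [mul_assoc] using hy
    have h2 := (htH _).2 hy'
    have := H.mul_mem (H.mul_mem hh h2) (H.inv_mem hh)
    simpa [mul_assoc] using this

include hH hcl in
/-- An element of `⟨H, g H g⁻¹⟩` normalizing `H R`, with `R` a `p'`-group, lies in `H R`. -/
theorem mem_sup_of_pair {R : Subgroup G} (hR : ¬ p ∣ Nat.card R)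
    (hHR : H ≤ normalizer (R : Set G)) {g w : G} (hw : w ∈ pairGroup H g)
    (hwn : ∀ y ∈ H, w * y * w⁻¹ ∈ H ⊔ R) : w ∈ H ⊔ R := by
  obtain ⟨t, ht, htH⟩ := exists_conj_of_card (T := pairGroup H g ⊓ (H ⊔ R))
    (S := H.map (MulAut.conj w).toMonoidHom) hH hR hHR (le_inf (left_le_pair g) le_sup_left)
    inf_le_right (by
      rintro _ ⟨y, hy, rfl⟩
      exact ⟨(pairGroup H g).mul_mem ((pairGroup H g).mul_mem hw (left_le_pair g hy))
        ((pairGroup H g).inv_mem hw), hwn y hy⟩) (card_conj w)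
  have hn : w⁻¹ * t ∈ normalizer (H : Set G) := mem_normalizer_fintype fun y hy => by
    obtain ⟨z, hz, e⟩ := (htH y).1 hy
    have e' : w * z * w⁻¹ = t * y * t⁻¹ := e
    have e2 : w⁻¹ * t * y * (w⁻¹ * t)⁻¹ = z := by
      calc w⁻¹ * t * y * (w⁻¹ * t)⁻¹ = w⁻¹ * (t * y * t⁻¹) * w := by group
        _ = z := by rw [← e']; group
    show _ ∈ H
    rw [e2]; exact hz
  have h1 : w⁻¹ * t ∈ H := mem_of_pair_normalizer hcl
    ((pairGroup H g).mul_mem ((pairGroup H g).inv_mem hw) ht.1) hn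
  have h2 := (H ⊔ R).mul_mem ht.2 (mem_sup_left (H.inv_mem h1) : (w⁻¹ * t)⁻¹ ∈ H ⊔ R)
  simpa [mul_assoc] using h2

include hH hab hcl in
/-- An element of the coset `u Q` is conjugate to `u v` with `v ∈ Q` centralizing `u`. -/
theorem exists_conj_mul {g u w : G} (hu : u ∈ H) (hw : u⁻¹ * w ∈ pairCore p H g) :
    ∃ c v : G, v ∈ pairCore p H g ∧ Commute u v ∧ c * w * c⁻¹ = u * v := by
  set Q := pairCore p H g with hQ
  obtain ⟨hsup, -⟩ := sup_pairCore hH hab hcl g
  have hnorm : H ≤ normalizer (Q : Set G) := (left_le_pair g).trans (pair_le_normalizer g)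
  have hwK : w ∈ pairGroup H g := by
    have := (pairGroup H g).mul_mem (left_le_pair g hu) (pairCore_le g hw)
    simpa using this
  have hPP := BlockOrth.isPPrimePart_pPrimePart (p := p) w
  obtain ⟨j, hj⟩ := hPP.exists_pow
  obtain ⟨a, hab', hcomm, ⟨n, hn⟩, hbreg⟩ := hPP
  set b := BlockOrth.pPrimePart p w with hb
  have hbK : b ∈ pairGroup H g := hj ▸ pow_mem hwK j
  have haK : a ∈ pairGroup H g := by
    have := (pairGroup H g).mul_mem hwK ((pairGroup H g).inv_mem hbK)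
    rwa [← hab', mul_inv_cancel_right] at this
  have hbQ : b ∈ Q := by
    haveI : (Q.subgroupOf (pairGroup H g)).Normal :=
      normal_subgroupOf_of_le_normalizer (pair_le_normalizer g)
    have h1 : (⟨b, hbK⟩ : pairGroup H g) ∈
        H.subgroupOf (pairGroup H g) ⊔ Q.subgroupOf (pairGroup H g) := by
      rw [← Subgroup.mem_map_iff_mem (subtype_injective (pairGroup H g)), Subgroup.map_sup,
        map_subgroupOf_eq_of_le (left_le_pair g), map_subgroupOf_eq_of_le (pairCore_le g), hsup]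
      exact hbK
    exact mem_of_coprime_of_mem_sup (hH.of_equiv (subgroupOfEquivOfLe (left_le_pair g)).symm) h1
      (by rw [← Subgroup.orderOf_coe]; exact hbreg)
  have haQ : u⁻¹ * a ∈ Q := by
    have h1 := Q.mul_mem hw (Q.inv_mem hbQ)
    rw [← hab'] at h1
    simpa [mul_assoc] using h1
  -- move `a` into `H`
  obtain ⟨P, hP⟩ := ((IsPGroup.of_card (p := p) (n := n)
    ((Nat.card_zpowers a).trans hn)).of_equiv (subgroupOfEquivOfLe
      ((zpowers_le).2 haK)).symm).exists_le_sylow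
  set S : Subgroup G := (P : Subgroup ↥(pairGroup H g)).map (pairGroup H g).subtype with hS
  have hSK : S ≤ pairGroup H g := map_subtype_le _
  have hcardS : Nat.card S = Nat.card H := by
    obtain ⟨P0, hP0⟩ := (hH.of_equiv
      (subgroupOfEquivOfLe (left_le_pair (H := H) g)).symm).exists_le_sylow
    have hPH : Nat.card (P0 : Subgroup ↥(pairGroup H g)) = Nat.card H := by
      refine Nat.dvd_antisymm ?_ ?_
      · obtain ⟨m, hm⟩ := IsPGroup.iff_card.1 P0.2
        have h1 : Nat.card (P0 : Subgroup ↥(pairGroup H g)) ∣ Nat.card H * Nat.card Q := by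
          refine (card_subgroup_dvd_card _).trans ?_
          rw [← hsup]
          exact Dvd.intro _ (CfsgLib.PLocal.card_sup_mul_card_inf H Q hnorm)
        refine Nat.Coprime.dvd_of_dvd_mul_right ?_ h1
        rw [hm]
        exact coprime_pow_of_not_dvd (not_dvd_pairCore g) m
      · rw [← Nat.card_congr (subgroupOfEquivOfLe (left_le_pair (H := H) g)).toEquiv]
        exact card_dvd_of_le hP0
    rw [hS, card_map_of_injective (subtype_injective _), ← hPH]
    exact Nat.card_congr (P.equiv P0).toEquiv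
  obtain ⟨t, ht, htH⟩ := exists_conj_of_card hH (not_dvd_pairCore g) hnorm (left_le_pair g) hsup.ge
    hSK hcardS
  have htah : t⁻¹ * a * t ∈ H := by
    refine (htH _).2 ?_
    rw [show t * (t⁻¹ * a * t) * t⁻¹ = a by group]
    exact ⟨⟨a, haK⟩, hP (mem_zpowers a), rfl⟩
  -- replace `t` by its component in `Q`
  have h1 : t ∈ ((H ⊔ Q : Subgroup G) : Set G) := by rw [hsup]; exact ht
  rw [sup_comm, coe_mul_of_right_le_normalizer_left _ _ hnorm] at h1
  obtain ⟨k, hk, h, hh, rfl⟩ := h1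
  have hka : k⁻¹ * a * k ∈ H := by
    have := H.mul_mem (H.mul_mem hh htah) (H.inv_mem hh)
    simpa [mul_assoc] using this
  have hka' : u⁻¹ * (k⁻¹ * a * k) ∈ Q := by
    have h3 : u⁻¹ * k⁻¹ * u ∈ Q := by
      have := (mem_normalizer_iff.1 (hnorm (H.inv_mem hu)) k⁻¹).1 (Q.inv_mem hk)
      simpa using this
    have := Q.mul_mem (Q.mul_mem h3 haQ) hk
    simpa [mul_assoc] using this
  have heq : k⁻¹ * a * k = u := by
    have h4 := eq_one_of_mem_coprime hH (H.mul_mem (H.inv_mem hu) hka) (not_dvd_pairCore g) hka'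
    rwa [inv_mul_eq_one, eq_comm] at h4
  refine ⟨k⁻¹, k⁻¹ * b * k, Q.mul_mem (Q.mul_mem (Q.inv_mem hk) hbQ) hk, ?_, ?_⟩
  · rw [← heq]
    show _ = _
    calc k⁻¹ * a * k * (k⁻¹ * b * k) = k⁻¹ * (a * b) * k := by group
      _ = k⁻¹ * (b * a) * k := by rw [hcomm.eq]
      _ = k⁻¹ * b * k * (k⁻¹ * a * k) := by group
  · rw [← heq]
    calc k⁻¹ * w * k⁻¹⁻¹ = k⁻¹ * (a * b) * k := by rw [hab', inv_inv]
      _ = k⁻¹ * a * k * (k⁻¹ * b * k) := by group

include hH hab hcl in
/-- An element of the complement in `⟨H, g H g⁻¹⟩` already lies in `⟨H, v H v⁻¹⟩`. -/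
theorem mem_pair_self {g v : G} (hv : v ∈ pairCore p H g) : v ∈ pairGroup H v := by
  obtain ⟨k, hk, hkH⟩ := exists_core_conj (p := p) hH hab hcl v
  have hvK : pairGroup H v ≤ pairGroup H g := pair_le_of_conj (left_le_pair g) fun y hy =>
    (pairGroup H g).mul_mem ((pairGroup H g).mul_mem (pairCore_le g hv) (left_le_pair g hy))
      ((pairGroup H g).inv_mem (pairCore_le g hv))
  have hn : v⁻¹ * k ∈ normalizer (H : Set G) := mem_normalizer_fintype fun y hy => by
    have := (hkH y).1 hy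
    simpa [mul_assoc] using this
  have h1 : v⁻¹ * k ∈ H := mem_of_pair_normalizer hcl ((pairGroup H g).mul_mem
    ((pairGroup H g).inv_mem (pairCore_le g hv)) (hvK (pairCore_le v hk))) hn
  have h2 := (pairGroup H v).mul_mem (pairCore_le v hk)
    ((pairGroup H v).inv_mem (left_le_pair v h1))
  simpa [mul_assoc] using h2

end pair

theorem isExtremelyClosed_subgroupOf {H : Subgroup G} (hcl : IsExtremelyClosed H) {L : Subgroup G}
    (hHL : H ≤ L) : IsExtremelyClosed (H.subgroupOf L) := by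
  intro g
  apply le_antisymm
  · rintro x ⟨hx, hn⟩
    have h1 : (x : G) ∈ pairGroup H (g : G) := by
      have h2 := mem_map_of_mem L.subtype hx
      rw [Subgroup.map_sup] at h2
      refine (sup_le_sup ?_ ?_ : _ ≤ pairGroup H (g : G)) h2
      · exact (map_subgroupOf_eq_of_le hHL).le
      · rintro _ ⟨_, ⟨y, hy, rfl⟩, rfl⟩
        exact ⟨(y : G), hy, rfl⟩
    refine mem_subgroupOf.2 (mem_of_pair_normalizer hcl h1 (mem_normalizer_fintype fun y hy => ?_))
    exact (mem_normalizer_iff.1 hn ⟨y, hHL hy⟩).1 hy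
  · exact le_inf le_sup_left le_normalizer

/-- The image in a quotient is extremely closed. -/
theorem isExtremelyClosed_map {H : Subgroup G} (N : Subgroup G)
    [N.Normal] (hN : ∀ g x : G, x ∈ pairGroup H g → (∀ y ∈ H, x * y * x⁻¹ ∈ H ⊔ N) → x ∈ H ⊔ N) :
    IsExtremelyClosed (H.map (QuotientGroup.mk' N)) := by
  intro a
  obtain ⟨a, rfl⟩ := QuotientGroup.mk'_surjective N a
  set π := QuotientGroup.mk' N
  have hcomap : ∀ y : G, π y ∈ H.map π ↔ y ∈ H ⊔ N := fun y => by
    rw [← Subgroup.mem_comap, comap_map_eq, QuotientGroup.ker_mk']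
  apply le_antisymm
  · rintro b ⟨hb, hbn⟩
    have h1 : b ∈ (pairGroup H a).map π := by
      rw [Subgroup.map_sup]
      refine (sup_le_sup le_rfl ?_ : _ ≤ H.map π ⊔ (H.map (MulAut.conj a).toMonoidHom).map π) hb
      rintro _ ⟨_, ⟨y, hy, rfl⟩, rfl⟩
      exact ⟨_, ⟨y, hy, rfl⟩, by simp [π]⟩
    obtain ⟨c, hc, rfl⟩ := h1
    refine (hcomap c).2 (hN a c hc fun y hy => (hcomap _).1 ?_)
    rw [map_mul, map_mul, map_inv]
    exact (mem_normalizer_iff.1 hbn _).1 (mem_map_of_mem π hy)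
  · exact le_inf le_sup_left le_normalizer

end CfsgLib.LocalEven.ExtremelyClosedOdd
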