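import Cfsg.Agent.Lib.LocalEven.ExtremelyClosedOdd.Count

/-!
# The counting argument in the principal block
-/

set_option autoImplicit false
set_option linter.unusedSectionVars false
set_option linter.style.haveILetI false
set_option maxHeartbeats 1000000

namespace CfsgLib.LocalEven.ExtremelyClosedOdd

open Cfsg CfsgLib.Chars CfsgLib.Blocks Subgroup
open scoped ComplexConjugate

universe u

variable {G : Type u} [Group G] {p : ℕ} [Fact p.Prime]

theorem principal_false [Finite G] {H : Subgroup G} (hH : IsPGroup p H)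
    (hab : IsMulCommutative H) (hcl : IsExtremelyClosed H) (hq : 3 ≤ Nat.card H)
    (hgen : normalClosure (H : Set G) = ⊤)
    (hcore : ∀ u ∈ H, u ≠ 1 → ∀ g v : G, v ∈ pairCore p H g → Commute u v →
      v ∈ (pPrimeCore p (centralizer ({u} : Set G))).map (centralizer ({u} : Set G)).subtype)
    (hcase : (∃ u ∈ H, ∃ u' ∈ H, u ≠ 1 ∧ u' ≠ u ∧ IsConj u u') ∨
      ∃ P : Subgroup G, IsPGroup p P ∧ (∀ u ∈ H, P ≤ centralizer ({u} : Set G)) ∧
        p * Nat.card H ≤ Nat.card P) :
    False := by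
  classical
  haveI := Fintype.ofFinite G
  haveI := Fintype.ofFinite H
  obtain ⟨M, hM⟩ := CharApps.exists_pModular p
  haveI := hM.2.1.isPrime
  haveI := irrFintype G
  set B := Finset.univ.filter (· ∈ principalBlock M G) with hB
  have hBsum : ∀ f : IrrCharacter G → ℂ,
      ∑ᶠ χ ∈ principalBlock M G, f χ = ∑ χ ∈ B, f χ := fun f =>
    finsum_mem_eq_sum_of_inter_support_eq f (by ext; simp [B])
  have hpe : ∀ u : G, u ∈ H → ∃ k, orderOf u = p ^ k := fun u hu => by
    obtain ⟨k, hk⟩ := (IsPGroup.iff_orderOf.1 hH) ⟨u, hu⟩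
    exact ⟨k, by rwa [← Subgroup.orderOf_coe] at hk⟩
  have hconst : CosetConst p H B := by
    intro χ hχ u hu hu1 g w hw
    obtain ⟨c, v, hv, hcomm, e⟩ := exists_conj_mul hH hab hcl hu hw
    obtain ⟨v', hv', ev⟩ := hcore u hu hu1 g v hv hcomm
    rw [← isClassFunction_irr χ w c, e, ← ev]
    exact principalBlock_apply_mul_core hM (hpe u hu) hv' (Finset.mem_filter.1 hχ).2
  have horth : ∀ v : G, ¬ p ∣ orderOf v → ∀ z ∈ H, z ≠ 1 →
      ∑ χ ∈ B, (χ : G → ℂ) v * conj ((χ : G → ℂ) z) = 0 := by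
    intro v hv z hz hz1
    rw [← hBsum]
    refine weak_orthogonality (Fact.out : p.Prime) hM.2.2 (isPBlock_principalBlock M) hv ?_
    obtain ⟨k, hk⟩ := hpe z hz
    rw [hk]
    exact dvd_pow_self p fun h0 => hz1 (by rwa [h0, pow_zero, orderOf_eq_one_iff] at hk)
  have hcubic := cubic_identity hH hab hcl hq B hconst horth
  set q : ℕ := Nat.card H with hqdef
  have hq0 : (3 : ℝ) ≤ (q : ℝ) := by exact_mod_cast hq
  set d : IrrCharacter G → ℝ := colDiff H with hd
  set E := (Finset.univ : Finset H).erase 1 with hE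
  have hEc : (E.card : ℝ) = (q : ℝ) - 1 := by
    rw [hE, Finset.card_erase_of_mem (Finset.mem_univ _), Finset.card_univ,
      ← Nat.card_eq_fintype_card, ← hqdef, Nat.cast_sub (by omega : 1 ≤ q), Nat.cast_one]
  -- the scalar products of the columns
  set N : H → H → ℂ := fun u z => ∑ χ ∈ B, (χ : G → ℂ) u * conj ((χ : G → ℂ) z) with hN
  have hNnorm : ∀ u z : H, IsConj (u : G) z → ∀ K : Subgroup G, IsPGroup p K →
      K ≤ centralizer ({(u : G)} : Set G) → (Nat.card K : ℝ) ≤ (N u z).re := by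
    intro u z hc K hK hKu
    have e : N u z = ∑ᶠ χ ∈ principalBlock M G, (χ : G → ℂ) u * conj ((χ : G → ℂ) u) := by
      rw [hBsum]
      exact Finset.sum_congr rfl fun χ _ => by rw [classFun_of_isConj (isClassFunction_irr χ) hc]
    rw [e]
    exact card_le_column_norm hM hK (hpe u u.2) hKu
  have hHu : ∀ u : H, H ≤ centralizer ({(u : G)} : Set G) := fun u h hh =>
    mem_centralizer_singleton_iff.2 (congrArg Subtype.val (hab.is_comm.comm (⟨h, hh⟩ : H) u))
  have hNnn : ∀ u z : H, 0 ≤ (N u z).re := by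
    intro u z
    by_cases hc : IsConj (u : G) z
    · exact le_trans (Nat.cast_nonneg _) (hNnorm u z hc H hH (hHu u))
    · have h1 := CharApps.principal_column_orth_of_not_isConj hM (hpe u u.2) (hpe z z.2) hc
      rw [hBsum] at h1
      show (0 : ℝ) ≤ (N u z).re
      rw [show N u z = 0 from h1, Complex.zero_re]
  have hsq : (q : ℝ) * q + q ≤ ∑ χ ∈ B, d χ ^ 2 := by
    have h1 : ((∑ χ ∈ B, d χ ^ 2 : ℝ) : ℂ) = ∑ u ∈ E, ∑ z ∈ E, N u z := by
      rw [Complex.ofReal_sum]
      simp only [hN]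
      simp only [Finset.sum_comm (t := B)]
      refine Finset.sum_congr rfl fun χ _ => ?_
      rw [← Finset.sum_mul_sum, ← map_sum, sum_erase_eq H χ, Complex.conj_ofReal,
        ← Complex.ofReal_mul, sq]
    have h2 := congrArg Complex.re h1
    rw [Complex.ofReal_re, Complex.re_sum] at h2
    simp only [Complex.re_sum] at h2
    rw [h2]
    rcases hcase with ⟨u₀, hu₀, u₁, hu₁, hne0, hne, hconj⟩ | ⟨P, hP, hPu, hPc⟩
    · have hu₁1 : u₁ ≠ 1 := fun h => hne0 (isConj_one_left.1 (h ▸ hconj))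
      set a : H := ⟨u₀, hu₀⟩
      set b : H := ⟨u₁, hu₁⟩
      have hab' : a ≠ b := fun h => hne (congrArg Subtype.val h).symm
      have ha : a ∈ E :=
        Finset.mem_erase.2 ⟨fun h => hne0 (congrArg Subtype.val h), Finset.mem_univ _⟩
      have hb : b ∈ E :=
        Finset.mem_erase.2 ⟨fun h => hu₁1 (congrArg Subtype.val h), Finset.mem_univ _⟩
      have h3 : ∀ u ∈ E, (q : ℝ) + ((if u = a then (q : ℝ) else 0) + (if u = b then (q : ℝ) else 0))
          ≤ ∑ z ∈ E, (N u z).re := by
        intro u hu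
        have hsingle : (q : ℝ) ≤ ∑ z ∈ E, (N u z).re :=
          le_trans (hNnorm u u (IsConj.refl _) H hH (hHu u))
            (Finset.single_le_sum (fun z _ => hNnn u z) hu)
        have hpair' : ∀ z ∈ E, u ≠ z → IsConj (u : G) z →
            (q : ℝ) + q ≤ ∑ z ∈ E, (N u z).re := by
          intro z hz huz hc
          have hp' := Finset.sum_le_sum_of_subset_of_nonneg
            (f := fun z => (N u z).re) (s := {u, z}) (t := E)
            (Finset.insert_subset hu (Finset.singleton_subset_iff.2 hz))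
            (fun z _ _ => hNnn _ _)
          rw [Finset.sum_pair huz] at hp'
          exact le_trans (add_le_add (hNnorm u u (IsConj.refl _) H hH (hHu u))
            (hNnorm u z hc H hH (hHu u))) hp'
        by_cases h : u = a
        · subst h
          rw [if_pos rfl, if_neg hab', add_zero]
          exact hpair' b hb hab' hconj
        · by_cases h' : u = b
          · subst h'
            rw [if_neg h, if_pos rfl, zero_add]
            exact hpair' a ha h hconj.symm
          · rw [if_neg h, if_neg h', add_zero, add_zero]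
            exact hsingle
      refine le_trans ?_ (Finset.sum_le_sum h3)
      rw [Finset.sum_add_distrib, Finset.sum_add_distrib, Finset.sum_ite_eq' E, if_pos ha,
        Finset.sum_ite_eq' E, if_pos hb, Finset.sum_const, nsmul_eq_mul, hEc]
      linarith
    · have h3 : ∀ u ∈ E, (2 * q : ℝ) ≤ ∑ z ∈ E, (N u z).re := by
        intro u hu
        refine le_trans (le_trans ?_ (hNnorm u u (IsConj.refl _) P hP (hPu u u.2)))
          (Finset.single_le_sum (fun z _ => hNnn u z) hu)
        have : 2 * q ≤ Nat.card P :=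
          le_trans (Nat.mul_le_mul_right q (Fact.out : p.Prime).two_le) hPc
        exact_mod_cast this
      refine le_trans ?_ (Finset.sum_le_sum h3)
      rw [Finset.sum_const, nsmul_eq_mul, hEc]
      nlinarith
  -- conclusion
  have h1mem : CharApps.oneIrr G ∈ B :=
    Finset.mem_filter.2 ⟨Finset.mem_univ _, principal_mem_principalBlock M⟩
  have hd1 : d (CharApps.oneIrr G) = (q : ℝ) - 1 := by
    simp [d, colDiff, CharApps.oneIrr_apply, hqdef, Nat.card_eq_fintype_card]
  have hD1 : degR (CharApps.oneIrr G) = 1 := by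
    have := degR_eq (CharApps.oneIrr G)
    rw [CharApps.oneIrr_apply] at this
    exact_mod_cast this.symm
  have hlin : ∑ χ ∈ B, degR χ * d χ = 0 := by
    have h1 : ∑ u ∈ E, ∑ χ ∈ B, (χ : G → ℂ) 1 * conj ((χ : G → ℂ) u) = 0 :=
      Finset.sum_eq_zero fun u hu => horth 1
        (by rw [orderOf_one]; exact (Fact.out : p.Prime).not_dvd_one) u u.2
        fun h => (Finset.mem_erase.1 hu).1 (Subtype.ext h)
    rw [Finset.sum_comm] at h1
    rw [Finset.sum_congr rfl (g := fun χ => ((degR χ * d χ : ℝ) : ℂ)) (fun χ _ => by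
      rw [← Finset.mul_sum, ← map_sum, sum_erase_eq H χ, Complex.conj_ofReal, degR_eq,
        Complex.ofReal_mul]), ← Complex.ofReal_sum, Complex.ofReal_eq_zero] at h1
    exact h1
  obtain ⟨χ₀, hχ₀, hneg⟩ : ∃ χ ∈ B.erase (CharApps.oneIrr G), d χ < 0 := by
    by_contra hno
    push Not at hno
    rw [← Finset.add_sum_erase _ _ h1mem, hd1, hD1, one_mul] at hlin
    have : 0 ≤ ∑ χ ∈ B.erase (CharApps.oneIrr G), degR χ * d χ :=
      Finset.sum_nonneg fun χ hχ => mul_nonneg (degR_pos χ).le (hno χ hχ)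
    linarith
  rw [← Finset.add_sum_erase _ _ h1mem, ← Finset.add_sum_erase _ _ h1mem, hd1, hD1] at hcubic
  rw [← Finset.add_sum_erase _ _ h1mem, hd1] at hsq
  set A := ∑ χ ∈ B.erase (CharApps.oneIrr G), d χ ^ 2
  have hA : ((q : ℝ) - 1) * ∑ χ ∈ B.erase (CharApps.oneIrr G), d χ ^ 3 / degR χ < A := by
    rw [Finset.mul_sum]
    refine Finset.sum_lt_sum (fun χ hχ => ?_) ⟨χ₀, hχ₀, ?_⟩
    · obtain ⟨hχ1, hχB⟩ := Finset.mem_erase.1 hχ
      have h := colDiff_le hH hab hcl hq B hconst hχB fun h => hχ1 (eq_oneIrr_of_trivial hgen h)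
      rw [mul_div_assoc', div_le_iff₀ (degR_pos χ)]
      have := mul_le_mul_of_nonneg_left h (sq_nonneg (d χ))
      linarith
    · have h1 : d χ₀ ^ 3 / degR χ₀ < 0 := div_neg_of_neg_of_pos (by
        have := mul_pos_of_neg_of_neg hneg hneg
        nlinarith) (degR_pos χ₀)
      exact lt_of_lt_of_le (mul_neg_of_pos_of_neg (by linarith) h1) (sq_nonneg _)
  have hk : (1 : ℝ) ≤ (q : ℝ) ^ 2 - 3 * q + 1 := by nlinarith
  have hA3 : 3 * (q : ℝ) - 1 ≤ A := by linarith
  nlinarith [mul_le_mul_of_nonneg_right hA3 (by linarith : (0 : ℝ) ≤ (q : ℝ) ^ 2 - 3 * q + 1),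
    mul_nonneg (mul_nonneg (by linarith : (0 : ℝ) ≤ (q : ℝ)) (by linarith : (0 : ℝ) ≤ 2 * (q : ℝ) - 1))
      (sub_nonneg.2 hq0)]

end CfsgLib.LocalEven.ExtremelyClosedOdd
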